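import Cfsg.Agent.Lib.FusionRankTwo.Data
import Mathlib.Algebra.Field.ZMod
import Mathlib.Tactic.LinearCombination

/-!
# Endomorphisms of the rank two groups
-/

set_option autoImplicit false

namespace CfsgLib.FusionRankTwo.Data

variable {Ω : Type*} [Group Ω] {S : Subgroup Ω} {p m : ℕ} (D : Data S p m) [hp : Fact p.Prime]

theorem w_ne_one : D.w ≠ 1 := fun h => by
  have h1 := orderOf_dvd_of_pow_eq_one (show D.z ^ p ^ m = 1 from h)
  rw [D.orderOf_z] at h1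
  exact absurd (Nat.le_of_dvd (pow_pos hp.out.pos m) h1)
    (not_le.2 (Nat.pow_lt_pow_right hp.out.one_lt (Nat.lt_succ_self m)))

theorem orderOf_w : orderOf D.w = p := orderOf_eq_prime D.w_pow D.w_ne_one

theorem cast_eq_of_wpow {e e' : ℕ} (h : D.w ^ e = D.w ^ e') : (e : ZMod p) = e' := by
  rw [ZMod.natCast_eq_natCast_iff]
  have h1 := pow_eq_pow_iff_modEq.1 h
  rwa [D.orderOf_w] at h1

/-- The subgroup `⟨y⟩ ⊔ ⟨z ^ p⟩`. -/
def L (D : Data S p m) : Subgroup Ω := Subgroup.zpowers D.y ⊔ Subgroup.zpowers (D.z ^ p)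

omit hp in
theorem L_le : D.L ≤ S :=
  sup_le (Subgroup.zpowers_le.2 D.hyS) (Subgroup.zpowers_le.2 (pow_mem D.hzS p))

theorem mem_L {u : Ω} : u ∈ D.L ↔ ∃ ν t : ℕ, u = D.y ^ ν * (D.z ^ p) ^ t := by
  constructor
  · intro hu
    have hc : Commute D.y (D.z ^ p) := D.hyz.pow_right p
    have hle : D.L ≤ ((zpowersHom Ω D.y).noncommCoprod (zpowersHom Ω (D.z ^ p))
        fun a b => by
          rw [zpowersHom_apply, zpowersHom_apply]
          exact hc.zpow_zpow _ _).range :=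
      sup_le (Subgroup.zpowers_le.2 ⟨(Multiplicative.ofAdd 1, 1), by simp⟩)
        (Subgroup.zpowers_le.2 ⟨(1, Multiplicative.ofAdd 1), by simp⟩)
    obtain ⟨⟨a, b⟩, rfl⟩ := hle hu
    have hy : IsOfFinOrder D.y := isOfFinOrder_iff_pow_eq_one.2 ⟨p, hp.out.pos, D.hyp⟩
    have hz : IsOfFinOrder (D.z ^ p) := (isOfFinOrder_iff_pow_eq_one.2
      ⟨p ^ (m + 1), pow_pos hp.out.pos _, D.hzp⟩ : IsOfFinOrder D.z).pow
    obtain ⟨ν, hν⟩ := hy.mem_powers_iff_mem_zpowers.2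
      (Subgroup.zpow_mem _ (Subgroup.mem_zpowers D.y) (Multiplicative.toAdd a))
    obtain ⟨t, ht⟩ := hz.mem_powers_iff_mem_zpowers.2
      (Subgroup.zpow_mem _ (Subgroup.mem_zpowers (D.z ^ p)) (Multiplicative.toAdd b))
    exact ⟨ν, t, by
      rw [MonoidHom.noncommCoprod_apply, zpowersHom_apply, zpowersHom_apply, ← hν, ← ht]⟩
  · rintro ⟨ν, t, rfl⟩
    exact mul_mem (Subgroup.mem_sup_left (pow_mem (Subgroup.mem_zpowers _) ν))
      (Subgroup.mem_sup_right (pow_mem (Subgroup.mem_zpowers _) t))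

/-- No injective endomorphism squares `x` modulo `L` and preserves `L`. -/
theorem false_of_endo (ha : D.a = 1) (f : S →* Ω) (hfS : ∀ u, f u ∈ S)
    (hinj : Function.Injective f) (hx : (D.x ^ 2)⁻¹ * f ⟨D.x, D.hxS⟩ ∈ D.L)
    (hy : f ⟨D.y, D.hyS⟩ ∈ D.L) : False := by
  obtain ⟨b, t₁, hb⟩ := D.mem_L.1 hx
  obtain ⟨ν, t, hν⟩ := D.mem_L.1 hy
  obtain ⟨j, k, i, hz⟩ := D.exists_nf (hfS ⟨D.z, D.hzS⟩)
  have hfx : f ⟨D.x, D.hxS⟩ = D.x ^ 2 * (D.y ^ b * (D.z ^ p) ^ t₁) :=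
    inv_mul_eq_iff_eq_mul.1 hb
  set c := (D.z ^ p) ^ t₁
  set c' := (D.z ^ p) ^ t with hc'
  have hcc : ∀ {g : Ω}, g ∈ S → ∀ e : ℕ, Commute ((D.z ^ p) ^ e) g := fun hg e =>
    (D.zp_comm hg).pow_left e
  -- the image of `w`
  have hfw : f (⟨D.z, D.hzS⟩ ^ p ^ m) = D.w ^ k := by
    rw [map_pow, hz, show p ^ m = p * p ^ (m - 1) by
      rw [← pow_succ', Nat.sub_add_cancel D.hm], pow_mul, D.nf_pow, D.w_eq, ← pow_mul, mul_comm,
      pow_mul]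
  -- conjugation of `y`
  have e1 : (D.w ^ (D.s * ν * 2)) = D.w ^ (k * D.s) := by
    have h1 : (⟨D.x, D.hxS⟩ * ⟨D.y, D.hyS⟩ * ⟨D.x, D.hxS⟩⁻¹ : S) =
        ⟨D.y, D.hyS⟩ * (⟨D.z, D.hzS⟩ ^ p ^ m) ^ D.s := Subtype.ext (by
      simpa using D.hxy)
    have h2 := congrArg f h1
    rw [map_mul, map_mul, map_mul, map_inv, map_pow, hfw, hfx, hν] at h2
    have hl : D.x ^ 2 * (D.y ^ b * c) * (D.y ^ ν * c') * (D.x ^ 2 * (D.y ^ b * c))⁻¹ =
        D.y ^ ν * c' * D.w ^ (D.s * ν * 2) := by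
      have hco : Commute (D.y ^ b * c) (D.y ^ ν * c') :=
        ((Commute.pow_pow (Commute.refl D.y) b ν).mul_right (hcc (pow_mem D.hyS b) t).symm).mul_left
          (hcc (mul_mem (pow_mem D.hyS ν) (pow_mem (pow_mem D.hzS p) t)) t₁)
      rw [mul_inv_rev, ← mul_assoc, mul_assoc (D.x ^ 2) (D.y ^ b * c), hco.eq, ← mul_assoc,
        mul_inv_cancel_right, ← conj_mul, D.conj_xpow_y,
        show D.x ^ 2 * c' * (D.x ^ 2)⁻¹ = c' by
          rw [← (hcc (pow_mem D.hxS 2) t).eq, mul_inv_cancel_right],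
        mul_assoc, ((hcc (pow_mem D.w_mem _) t).symm).eq, ← mul_assoc]
    rw [hl, ← pow_mul] at h2
    exact mul_left_cancel h2
  -- conjugation of `z`
  have e2 : (j + 2 * k) % p = (ν + j) % p := by
    have h1 : (⟨D.x, D.hxS⟩ * ⟨D.z, D.hzS⟩ * ⟨D.x, D.hxS⟩⁻¹ : S) =
        ⟨D.y, D.hyS⟩ * ⟨D.z, D.hzS⟩ := Subtype.ext (by simpa [ha] using D.hxz)
    have h2 := congrArg f h1
    rw [map_mul, map_mul, map_mul, map_inv, hfx, hν, hz] at h2
    obtain ⟨e, he⟩ := D.conj_xpow 2 j k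
    rw [ha, mul_one] at he
    set q := D.s * b * i
    have hq : D.y ^ b * D.x ^ i * (D.y ^ b)⁻¹ = D.w ^ (q * (p - 1)) * D.x ^ i := by
      have hi : (D.x ^ i * D.y ^ b * (D.x ^ i)⁻¹)⁻¹ = (D.y ^ b * D.w ^ q)⁻¹ := by
        rw [D.conj_xpow_y]
      have hwinv : (D.w ^ q)⁻¹ = D.w ^ (q * (p - 1)) := inv_eq_of_mul_eq_one_right (by
        rw [← pow_add, show q + q * (p - 1) = p * q by
          obtain ⟨r, hr⟩ : ∃ r, p = r + 1 := ⟨p - 1, by have := hp.out.pos; omega⟩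
          rw [hr]; simp; ring, pow_mul, D.w_pow, one_pow])
      calc D.y ^ b * D.x ^ i * (D.y ^ b)⁻¹
          = D.y ^ b * (D.x ^ i * D.y ^ b * (D.x ^ i)⁻¹)⁻¹ * D.x ^ i := by group
        _ = D.w ^ (q * (p - 1)) * D.x ^ i := by
            rw [hi, mul_inv_rev, hwinv, ← mul_assoc,
              ((D.wpow_comm (pow_mem D.hyS b) (q * (p - 1))).symm).eq, mul_inv_cancel_right]
    have hl : D.x ^ 2 * (D.y ^ b * c) * (D.y ^ j * D.z ^ k * D.x ^ i) * (D.x ^ 2 * (D.y ^ b * c))⁻¹ =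
        D.y ^ (j + 2 * k) * D.z ^ (k + p ^ m * (e + q * (p - 1))) * D.x ^ i := by
      have hg : Commute (D.y ^ b) (D.y ^ j * D.z ^ k) :=
        (Commute.pow_pow (Commute.refl D.y) b j).mul_right (D.hyz.pow_pow b k)
      have hin : D.y ^ b * c * (D.y ^ j * D.z ^ k * D.x ^ i) * (D.y ^ b * c)⁻¹ =
          D.y ^ j * D.z ^ k * (D.w ^ (q * (p - 1)) * D.x ^ i) := by
        rw [mul_assoc (D.y ^ b) c, (hcc (D.nf_mem j k i) t₁).eq, mul_inv_rev]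
        rw [show D.y ^ b * (D.y ^ j * D.z ^ k * D.x ^ i * c) * (c⁻¹ * (D.y ^ b)⁻¹) =
          D.y ^ b * (D.y ^ j * D.z ^ k) * D.x ^ i * (D.y ^ b)⁻¹ by group, hg.eq, ← hq]
        group
      calc _ = D.x ^ 2 * (D.y ^ b * c * (D.y ^ j * D.z ^ k * D.x ^ i) * (D.y ^ b * c)⁻¹) *
            (D.x ^ 2)⁻¹ := by group
        _ = (D.x ^ 2 * (D.y ^ j * D.z ^ k) * (D.x ^ 2)⁻¹) *
            (D.x ^ 2 * D.w ^ (q * (p - 1)) * (D.x ^ 2)⁻¹) * (D.x ^ 2 * D.x ^ i * (D.x ^ 2)⁻¹) := by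
              rw [hin]; group
        _ = _ := by
              rw [he, show D.x ^ 2 * D.w ^ (q * (p - 1)) * (D.x ^ 2)⁻¹ = D.w ^ (q * (p - 1)) by
                rw [← (D.wpow_comm (pow_mem D.hxS 2) _).eq, mul_inv_cancel_right],
                show D.x ^ 2 * D.x ^ i * (D.x ^ 2)⁻¹ = D.x ^ i by group,
                mul_assoc (D.y ^ (j + 2 * k) * D.z ^ k), ← pow_add, D.yzw]
    have hr : D.y ^ ν * c' * (D.y ^ j * D.z ^ k * D.x ^ i) =
        D.y ^ (ν + j) * D.z ^ (p * t + k) * D.x ^ i := by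
      rw [← D.yz_mul, hc', ← pow_mul]
      group
    rw [hl, hr] at h2
    exact (D.nf_unique h2).1
  have e1' := D.cast_eq_of_wpow e1
  have e2' : ((j + 2 * k : ℕ) : ZMod p) = ((ν + j : ℕ) : ZMod p) := by
    rw [ZMod.natCast_eq_natCast_iff']; exact e2
  push_cast at e1' e2'
  have hs : (D.s : ZMod p) ≠ 0 := by
    rw [Ne, ZMod.natCast_eq_zero_iff]; exact D.hs
  have h3 : ((3 : ℕ) : ZMod p) ≠ 0 := by
    rw [Ne, ZMod.natCast_eq_zero_iff]
    exact fun h => by have := Nat.le_of_dvd (by norm_num) h; have := D.hp5; omega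
  have hk : (k : ZMod p) = 0 := by
    have h4 : ((3 : ℕ) : ZMod p) * ((D.s : ZMod p) * k) = 0 := by
      push_cast
      linear_combination e1' + 2 * (D.s : ZMod p) * e2'
    exact (mul_eq_zero.1 ((mul_eq_zero.1 h4).resolve_left h3)).resolve_left hs
  rw [ZMod.natCast_eq_zero_iff] at hk
  obtain ⟨k', rfl⟩ := hk
  rw [pow_mul, D.w_pow, one_pow, ← map_one f] at hfw
  exact D.w_ne_one (congrArg Subtype.val (hinj hfw))

end CfsgLib.FusionRankTwo.Data
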