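import Cfsg.Agent.Lib.FusionAut.Supersoluble
import Mathlib.GroupTheory.Sylow

/-!
# Automorphisms preserving a three-step series with cyclic steps

For a fully normalized subgroup the automorphisms preserving such a series normalize `Aut_S(E)`; so
an essential subgroup has no such series invariant under its whole automizer, and an automorphism
normalizing `Aut_S(E)` extends to `N_S(E)`.
-/

set_option autoImplicit false
set_option linter.style.haveILetI false

namespace CfsgLib.FusionRankTwo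

open Cfsg Cfsg.FusionSystem CfsgLib.Fusion CfsgLib.FusionAut

variable {Ω : Type*} [Group Ω] {S : Subgroup Ω} {p : ℕ} {F : Cfsg.FusionSystem S}

/-- A series `1 ≤ A ≤ B ≤ E` with normal members and cyclic steps. -/
structure CyclicSeries (E : Subgroup Ω) where
  A : Subgroup E
  B : Subgroup E
  hA : A.Normal
  hB : B.Normal
  stepA : ∃ a, A = Subgroup.zpowers a
  stepB : ∃ b, B = A ⊔ Subgroup.zpowers b
  stepTop : ∃ c, ⊤ = B ⊔ Subgroup.zpowers c

/-- The series is preserved by the automorphism. -/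
def CyclicSeries.Preserved {E : Subgroup Ω} (c : CyclicSeries E) (g : MulAut E) : Prop :=
  (∀ d ∈ c.A, g d ∈ c.A) ∧ ∀ d ∈ c.B, g d ∈ c.B

theorem exists_normalizer_pGroup [Fact p.Prime] {E : Subgroup Ω} [Finite E] (hE : IsPGroup p E)
    (c : CyclicSeries E) (G : Subgroup (MulAut E)) (hG : ∀ g ∈ G, c.Preserved g) :
    ∃ K : Subgroup G, K.Normal ∧ IsPGroup p K ∧ ∀ (g : G) (k : ℕ), g ^ p ^ k = 1 → g ∈ K := by
  obtain ⟨a, ha⟩ := c.stepA
  obtain ⟨b, hb⟩ := c.stepB
  obtain ⟨t, ht⟩ := c.stepTop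
  refine exists_normal_pGroup_of_chain hE (m := 3) ![⊥, c.A, c.B, ⊤] rfl rfl ?_ ?_ ?_
  · intro i
    fin_cases i
    · exact inferInstanceAs (⊥ : Subgroup E).Normal
    · exact c.hA
    · exact c.hB
    · exact inferInstanceAs (⊤ : Subgroup E).Normal
  · intro g hg i d hd
    fin_cases i
    · simp at hd ⊢
      simp [hd]
    · exact (hG g hg).1 d hd
    · exact (hG g hg).2 d hd
    · simp
  · intro i
    fin_cases i
    · exact ⟨a, by simpa using ha⟩
    · exact ⟨b, hb⟩
    · exact ⟨t, ht⟩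

variable [Finite S] [Fact p.Prime]

/-- Automorphisms preserving the series normalize `Aut_S(E)`. -/
theorem normalizes_autInduced (hS : IsPGroup p S) (hF : F.IsSaturated p) {E : Subgroup Ω}
    (hE : F.IsFullyNormalized E) (c : CyclicSeries E)
    (hc : ∀ g ∈ autInducedBy S E, c.Preserved g) {h : MulAut E} (hh : h ∈ F.autGroup E)
    (hhc : c.Preserved h) : ∀ g ∈ autInducedBy S E, h * g * h⁻¹ ∈ autInducedBy S E := by
  classical
  haveI : Finite E := finite_of_le hE.1
  haveI : Finite (MulAut E) := finite_mulAut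
  have hEp : IsPGroup p E := hS.to_le hE.1
  let P : Submonoid (MulAut E) :=
    { carrier := {g | g ∈ F.autGroup E ∧ c.Preserved g}
      one_mem' := ⟨one_mem _, fun d hd => hd, fun d hd => hd⟩
      mul_mem' := fun {a b} ha hb => ⟨mul_mem ha.1 hb.1, fun d hd => ha.2.1 _ (hb.2.1 d hd),
        fun d hd => ha.2.2 _ (hb.2.2 d hd)⟩ }
  let G : Subgroup (MulAut E) :=
    { P with
      inv_mem' := fun {a} ha => by
        obtain ⟨k, hk⟩ : ∃ k : ℕ, a⁻¹ = a ^ k := by
          obtain ⟨k, hk⟩ := (isOfFinOrder_of_finite a).mem_powers_iff_mem_zpowers.2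
            (inv_mem (Subgroup.mem_zpowers a))
          exact ⟨k, hk.symm⟩
        show a⁻¹ ∈ P
        rw [hk]
        exact pow_mem (show a ∈ P from ha) k }
  obtain ⟨K, hKn, hKp, hKall⟩ := exists_normalizer_pGroup hEp c G fun g hg => hg.2
  have hle : autInducedBy S E ≤ G := fun g hg => ⟨autInducedBy_le_autGroup F hE.1 hg, hc g hg⟩
  obtain ⟨-, T, hT⟩ := isFullyAutomized_of_isFullyNormalized hS hF hE
  have hsub : autInducedBy S E ≤ K.map G.subtype := by
    intro g hg
    obtain ⟨k, hk⟩ := isPGroup_autInducedBy hS E ⟨g, hg⟩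
    exact ⟨⟨g, hle hg⟩, hKall _ k (Subtype.ext (by simpa using congrArg Subtype.val hk)), rfl⟩
  have hKaut : K.map G.subtype ≤ F.autGroup E := by
    rintro _ ⟨g, -, rfl⟩
    exact g.2.1
  have heq : K.map G.subtype = autInducedBy S E := by
    refine le_antisymm ?_ hsub
    have h1 : (T : Subgroup (F.autGroup E)) ≤ (K.map G.subtype).subgroupOf (F.autGroup E) := by
      rw [hT]
      exact fun g hg => hsub hg
    have h2 := T.is_maximal' (IsPGroup.comap_subtype (hKp.map G.subtype)) h1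
    intro g hg
    have h3 : (⟨g, hKaut hg⟩ : F.autGroup E) ∈ (T : Subgroup (F.autGroup E)) := h2.le hg
    rw [hT] at h3
    exact h3
  intro g hg
  rw [← heq] at hg ⊢
  obtain ⟨g', hg', rfl⟩ := hg
  exact ⟨⟨h, hh, hhc⟩ * g' * ⟨h, hh, hhc⟩⁻¹, hKn.conj_mem g' hg' _, rfl⟩

/-- An essential subgroup has no invariant series with cyclic steps. -/
theorem false_of_essential (hS : IsPGroup p S) (hF : F.IsSaturated p) {E : Subgroup Ω}
    (hE : F.IsEssential p E) (hlt : E < S) (c : CyclicSeries E)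
    (hc : ∀ g ∈ F.autGroup E, c.Preserved g) : False := by
  obtain ⟨g, hg, hgE⟩ := SetLike.exists_of_lt (lt_normalizerIn hS hlt)
  refine hgE (mem_of_conjAut_mem_inn (centralizerIn_le_of_isCentric hE.1) hE.1.1 hg.1 hg.2 ?_)
  have hmem : conjAut E g hg.2 ∈ autInducedBy S E := conjAut_mem_autInducedBy hg.1 hg.2
  have hn : ((autInducedBy S E).subgroupOf (F.autGroup E)).Normal :=
    ⟨fun a ha b => normalizes_autInduced hS hF hE.2.1 c
      (fun g hg => hc g (autInducedBy_le_autGroup F hE.1.1 hg)) b.2 (hc _ b.2) a ha⟩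
  haveI : Finite E := finite_of_le hE.1.1
  haveI : Finite (MulAut E) := finite_mulAut
  rw [← (isRadical_of_isEssential hS hF hE).2]
  refine ⟨⟨_, autInducedBy_le_autGroup F hE.1.1 hmem⟩, CfsgLib.Solvable.le_pCore hn ?_ hmem, rfl⟩
  exact IsPGroup.comap_subtype (isPGroup_autInducedBy hS E)

/-- An automorphism normalizing `Aut_S(E)` extends to the normalizer. -/
theorem exists_extend (hS : IsPGroup p S) (hF : F.IsSaturated p) {E : Subgroup Ω}
    (hE : F.IsFullyNormalized E) {h : MulAut E} (hh : h ∈ F.autGroup E)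
    (hn : ∀ g ∈ autInducedBy S E, h * g * h⁻¹ ∈ autInducedBy S E) :
    ∃ ψ ∈ F.autGroup (normalizerIn S E), ∀ (x : Ω) (hx : x ∈ E) (hx' : x ∈ normalizerIn S E),
      ((ψ ⟨x, hx'⟩ : normalizerIn S E) : Ω) = ((h ⟨x, hx⟩ : E) : Ω) := by
  classical
  obtain ⟨-, hrec⟩ := isReceptive_of_isFullyNormalized hS hF hE
  set φ : E →* Ω := E.subtype.comp h.toMonoidHom
  have hφ : φ ∈ F.Hom E := (mem_autGroup_iff_hom hE.1).1 hh
  obtain ⟨χ, hχ, hag⟩ := hrec E φ hφ (range_subtype_comp h)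
  have hN : normalizerIn S E ≤ extender S E φ := fun g hg => by
    rw [mem_extender_iff_congr h (fun _ => rfl) hg.1 hg.2]
    have h1 := hn _ (conjAut_mem_autInducedBy hg.1 hg.2)
    exact h1
  set N := normalizerIn S E
  have hEN : E ≤ N := fun x hx => ⟨hE.1 hx, Subgroup.le_normalizer hx⟩
  have hNS : N ≤ S := fun x hx => hx.1
  haveI : Finite N := finite_of_le hNS
  haveI : Finite E := finite_of_le hE.1
  set ψ₀ : N →* Ω := χ.comp (Subgroup.inclusion hN)
  have hψ₀ : ψ₀ ∈ F.Hom N := restrict_mem hχ hN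
  have hψ₀E : ∀ (x : Ω) (hx : x ∈ E) (hx' : x ∈ N), ψ₀ ⟨x, hx'⟩ = ((h ⟨x, hx⟩ : E) : Ω) :=
    fun x hx hx' => hag x hx (hN hx')
  have hinto : ∀ g : N, ψ₀ g ∈ N := by
    intro g
    refine ⟨map_mem hψ₀ g, Subgroup.mem_normalizer_fintype fun m hm => ?_⟩
    set m' : E := h⁻¹ ⟨m, hm⟩
    have h1 : ψ₀ ⟨(m' : Ω), hEN m'.2⟩ = m := by
      rw [hψ₀E _ m'.2]
      show ((h m' : E) : Ω) = m
      rw [show h m' = ⟨m, hm⟩ from MulAut.apply_inv_self _ h _]
    rw [← h1, ← map_inv, ← map_mul, ← map_mul]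
    have h2 : (g : Ω) * m' * (g : Ω)⁻¹ ∈ E := conj_mem_of_mem_normalizer g.2.2 m'.2
    exact (hψ₀E _ h2 (g * ⟨(m' : Ω), hEN m'.2⟩ * g⁻¹ : N).2).symm ▸ (h ⟨_, h2⟩).2
  let f : N →* N := ψ₀.codRestrict N hinto
  have hf : Function.Injective f := fun a b hab =>
    hom_inj hψ₀ (congrArg Subtype.val hab)
  let ψ : MulAut N := MulEquiv.ofBijective f (Finite.injective_iff_bijective.1 hf)
  refine ⟨ψ, (mem_autGroup_iff_hom hNS).2 ?_, hψ₀E⟩
  exact hψ₀

end CfsgLib.FusionRankTwo
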