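import Cfsg.Agent.Lib.PGroup.RankTwoOdd

/-!
# The non-metacyclic groups of rank two, `p ≥ 5`

`S = ⟨x, y, z⟩` of order `p ^ (m + 3)` with `y z = z y`, `x z x⁻¹ = y ^ a z` and
`x y x⁻¹ = y w ^ s`, where `w = z ^ (p ^ m)`.
-/

set_option autoImplicit false
set_option linter.style.haveILetI false

namespace CfsgLib.FusionRankTwo

variable {Ω : Type*} [Group Ω] {S : Subgroup Ω} {p m : ℕ}

/-- Generators and relations. -/
structure Data (S : Subgroup Ω) (p m : ℕ) where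
  x : Ω
  y : Ω
  z : Ω
  a : ℕ
  s : ℕ
  hp5 : 5 ≤ p
  hm : 1 ≤ m
  hxS : x ∈ S
  hyS : y ∈ S
  hzS : z ∈ S
  gen : Subgroup.closure ({x, y, z} : Set Ω) = S
  card : Nat.card S = p ^ (m + 3)
  hxp : x ^ p = 1
  hyp : y ^ p = 1
  hzp : z ^ p ^ (m + 1) = 1
  hyz : Commute y z
  ha : a = 0 ∨ a = 1
  hs : ¬ p ∣ s
  hxz : x * z * x⁻¹ = y ^ a * z
  hxy : x * y * x⁻¹ = y * (z ^ p ^ m) ^ s

namespace Data

variable (D : Data S p m)

/-- The socle element. -/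
def w : Ω := D.z ^ p ^ m

theorem hxy' : D.x * D.y * D.x⁻¹ = D.y * D.w ^ D.s := D.hxy

theorem w_pow : D.w ^ p = 1 := by rw [w, ← pow_mul, ← pow_succ, D.hzp]

theorem w_eq : D.w = (D.z ^ p) ^ p ^ (m - 1) := by
  rw [w, ← pow_mul, ← pow_succ', Nat.sub_add_cancel D.hm]

theorem w_mem : D.w ∈ S := pow_mem D.hzS _

theorem zp_comm {g : Ω} (hg : g ∈ S) : Commute (D.z ^ p) g := by
  rw [← D.gen] at hg
  induction hg using Subgroup.closure_induction with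
  | mem u hu =>
    simp only [Set.mem_insert_iff, Set.mem_singleton_iff] at hu
    rcases hu with rfl | rfl | rfl
    · refine (?_ : Commute D.x (D.z ^ p)).symm
      show D.x * D.z ^ p = D.z ^ p * D.x
      rw [← mul_inv_eq_iff_eq_mul, ← conj_pow, D.hxz, (D.hyz.pow_left _).mul_pow, ← pow_mul,
        mul_comm, pow_mul, D.hyp, one_pow, one_mul]
    · exact (D.hyz.pow_right p).symm
    · exact (Commute.refl _).pow_left p
  | one => exact Commute.one_right _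
  | mul u v _ _ hu hv => exact hu.mul_right hv
  | inv u _ hu => exact hu.inv_right

theorem zp_pow_comm {g : Ω} (hg : g ∈ S) {u : Ω} (hu : u ∈ Subgroup.zpowers (D.z ^ p)) :
    Commute u g := by
  obtain ⟨i, rfl⟩ := Subgroup.mem_zpowers_iff.1 hu
  exact (D.zp_comm hg).zpow_left i

theorem w_mem_zpowers : D.w ∈ Subgroup.zpowers (D.z ^ p) := by
  rw [D.w_eq]; exact pow_mem (Subgroup.mem_zpowers _) _

theorem w_comm {g : Ω} (hg : g ∈ S) : Commute D.w g := D.zp_pow_comm hg D.w_mem_zpowers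

theorem wpow_comm {g : Ω} (hg : g ∈ S) (e : ℕ) : Commute (D.w ^ e) g := (D.w_comm hg).pow_left e

theorem yz_mem (j k : ℕ) : D.y ^ j * D.z ^ k ∈ S := mul_mem (pow_mem D.hyS j) (pow_mem D.hzS k)

theorem nf_mem (j k i : ℕ) : D.y ^ j * D.z ^ k * D.x ^ i ∈ S :=
  mul_mem (D.yz_mem j k) (pow_mem D.hxS i)

theorem yz_mul (j k j' k' : ℕ) :
    D.y ^ j * D.z ^ k * (D.y ^ j' * D.z ^ k') = D.y ^ (j + j') * D.z ^ (k + k') := by
  rw [pow_add, pow_add]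
  exact ((D.hyz.pow_pow j' k).symm).mul_mul_mul_comm _ _

theorem yzw (j k e : ℕ) :
    D.y ^ j * D.z ^ k * D.w ^ e = D.y ^ j * D.z ^ (k + p ^ m * e) := by
  rw [w, ← pow_mul, mul_assoc, pow_add]

theorem conj_x_y (j : ℕ) : D.x * D.y ^ j * D.x⁻¹ = D.y ^ j * D.w ^ (D.s * j) := by
  rw [← conj_pow, D.hxy', ((D.wpow_comm D.hyS _).symm).mul_pow, pow_mul]

theorem conj_x (j k : ℕ) : D.x * (D.y ^ j * D.z ^ k) * D.x⁻¹ =
    D.y ^ (j + D.a * k) * D.z ^ k * D.w ^ (D.s * j) := by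
  rw [← conj_mul, D.conj_x_y, ← conj_pow, D.hxz, (D.hyz.pow_left _).mul_pow, ← pow_mul, mul_assoc,
    (D.wpow_comm (D.yz_mem (D.a * k) k) (D.s * j)).eq, pow_add]
  simp only [mul_assoc]

theorem conj_xpow (i j : ℕ) : ∀ k : ℕ, ∃ e : ℕ,
    D.x ^ i * (D.y ^ j * D.z ^ k) * (D.x ^ i)⁻¹ = D.y ^ (j + i * D.a * k) * D.z ^ k * D.w ^ e := by
  induction i with
  | zero => exact fun k => ⟨0, by simp⟩
  | succ i ih =>
    intro k
    obtain ⟨e, he⟩ := ih k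
    refine ⟨D.s * (j + i * D.a * k) + e, ?_⟩
    rw [show D.x ^ (i + 1) * (D.y ^ j * D.z ^ k) * (D.x ^ (i + 1))⁻¹ =
      D.x * (D.x ^ i * (D.y ^ j * D.z ^ k) * (D.x ^ i)⁻¹) * D.x⁻¹ by
      rw [pow_succ', mul_inv_rev]; group, he, ← conj_mul, D.conj_x,
      show D.x * D.w ^ e * D.x⁻¹ = D.w ^ e by
        rw [← (D.wpow_comm D.hxS e).eq, mul_inv_cancel_right],
      mul_assoc, ← pow_add]
    congr 3
    ring

theorem conj_xpow_y (i j : ℕ) :
    D.x ^ i * D.y ^ j * (D.x ^ i)⁻¹ = D.y ^ j * D.w ^ (D.s * j * i) := by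
  induction i with
  | zero => simp
  | succ i ih =>
    rw [show D.x ^ (i + 1) * D.y ^ j * (D.x ^ (i + 1))⁻¹ =
      D.x * (D.x ^ i * D.y ^ j * (D.x ^ i)⁻¹) * D.x⁻¹ by
      rw [pow_succ', mul_inv_rev]; group, ih, ← conj_mul, D.conj_x_y,
      show D.x * D.w ^ (D.s * j * i) * D.x⁻¹ = D.w ^ (D.s * j * i) by
        rw [← (D.wpow_comm D.hxS _).eq, mul_inv_cancel_right],
      mul_assoc, ← pow_add]
    congr 2
    ring

theorem conj_z_x : D.z * D.x * D.z⁻¹ = (D.y ^ D.a)⁻¹ * D.x := by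
  have h : D.x * D.z = D.y ^ D.a * D.z * D.x := mul_inv_eq_iff_eq_mul.1 D.hxz
  rw [mul_inv_eq_iff_eq_mul, mul_assoc, h]
  group

theorem xinv (i : ℕ) : (D.x ^ i)⁻¹ = D.x ^ (i * (p - 1)) := by
  refine inv_eq_of_mul_eq_one_right ?_
  rw [← pow_add, show i + i * (p - 1) = p * i by
    obtain ⟨q, hq⟩ : ∃ q, p = q + 1 := ⟨p - 1, by have := D.hp5; omega⟩
    subst hq; simp; ring, pow_mul, D.hxp, one_pow]

theorem nf_mul (j k i j' k' i' : ℕ) : ∃ j'' k'', D.y ^ j * D.z ^ k * D.x ^ i *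
    (D.y ^ j' * D.z ^ k' * D.x ^ i') = D.y ^ j'' * D.z ^ k'' * D.x ^ (i + i') := by
  obtain ⟨e, he⟩ := D.conj_xpow i j' k'
  refine ⟨j + (j' + i * D.a * k'), k + (k' + p ^ m * e), ?_⟩
  rw [← D.yz_mul, ← D.yzw, ← he, pow_add]
  group

/-- Every element has the form `y ^ j z ^ k x ^ i`. -/
theorem exists_nf {g : Ω} (hg : g ∈ S) :
    ∃ j k i : ℕ, g = D.y ^ j * D.z ^ k * D.x ^ i := by
  rw [← D.gen] at hg
  induction hg using Subgroup.closure_induction with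
  | mem u hu =>
    simp only [Set.mem_insert_iff, Set.mem_singleton_iff] at hu
    rcases hu with rfl | rfl | rfl
    · exact ⟨0, 0, 1, by simp⟩
    · exact ⟨1, 0, 0, by simp⟩
    · exact ⟨0, 1, 0, by simp⟩
  | one => exact ⟨0, 0, 0, by simp⟩
  | mul u v _ _ hu hv =>
    obtain ⟨j, k, i, rfl⟩ := hu
    obtain ⟨j', k', i', rfl⟩ := hv
    obtain ⟨j'', k'', h⟩ := D.nf_mul j k i j' k' i'
    exact ⟨j'', k'', i + i', h⟩
  | inv u _ hu =>
    obtain ⟨j, k, i, rfl⟩ := hu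
    have hp := D.hp5
    have hinv : (D.y ^ j * D.z ^ k)⁻¹ = D.y ^ (j * (p - 1)) * D.z ^ (k * (p ^ (m + 1) - 1)) := by
      refine inv_eq_of_mul_eq_one_right ?_
      rw [D.yz_mul, show j + j * (p - 1) = p * j by
        obtain ⟨q, hq⟩ : ∃ q, p = q + 1 := ⟨p - 1, by omega⟩
        subst hq; simp; ring, show k + k * (p ^ (m + 1) - 1) = p ^ (m + 1) * k by
        obtain ⟨q, hq⟩ : ∃ q, p ^ (m + 1) = q + 1 :=
          ⟨p ^ (m + 1) - 1, by have := Nat.one_le_pow (m + 1) p (by omega); omega⟩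
        rw [hq]; simp; ring, pow_mul, D.hyp, one_pow, pow_mul, D.hzp, one_pow, one_mul]
    obtain ⟨j', k', h⟩ :=
      D.nf_mul 0 0 (i * (p - 1)) (j * (p - 1)) (k * (p ^ (m + 1) - 1)) 0
    refine ⟨j', k', i * (p - 1) + 0, ?_⟩
    rw [← h, mul_inv_rev, D.xinv, hinv]
    simp

variable [hp : Fact p.Prime]

theorem yz_pow (j k : ℕ) : (D.y ^ j * D.z ^ k) ^ p = (D.z ^ p) ^ k := by
  rw [(D.hyz.pow_pow j k).mul_pow, ← pow_mul, mul_comm, pow_mul, D.hyp, one_pow, one_mul,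
    ← pow_mul, mul_comm, pow_mul]

theorem nf_pow (j k i : ℕ) : (D.y ^ j * D.z ^ k * D.x ^ i) ^ p = (D.z ^ p) ^ k := by
  set g := D.y ^ j * D.z ^ k
  set t := D.x ^ i
  obtain ⟨e, he⟩ := D.conj_xpow i j k
  set c := i * D.a * k
  set u := D.y ^ c * D.w ^ e with hu
  have hgS : g ∈ S := D.yz_mem j k
  have hcS : D.y ^ c ∈ S := pow_mem D.hyS c
  have hgy : Commute g (D.y ^ c) :=
    ((Commute.refl D.y).pow_pow j c).mul_left (D.hyz.pow_pow c k).symm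
  have hgu : Commute g u := hgy.mul_right (D.wpow_comm hgS e).symm
  have h1 : t * g * t⁻¹ = g * u := by
    rw [he, hu, pow_add, mul_assoc (D.y ^ j) (D.y ^ c), (D.hyz.pow_pow c k).eq]
    simp only [g, mul_assoc]
  have h2 : t * u * t⁻¹ = u * D.w ^ (D.s * c * i) := by
    rw [hu, ← conj_mul, D.conj_xpow_y,
      show t * D.w ^ e * t⁻¹ = D.w ^ e by
        rw [← (D.wpow_comm (pow_mem D.hxS i) e).eq, mul_inv_cancel_right],
      mul_assoc, mul_assoc, (Commute.pow_pow (Commute.refl D.w) _ _).eq]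
    simp only [mul_assoc]
  have h3 : t * D.w ^ (D.s * c * i) * t⁻¹ = D.w ^ (D.s * c * i) := by
    rw [← (D.wpow_comm (pow_mem D.hxS i) _).eq, mul_inv_cancel_right]
  have huS : u ∈ S := mul_mem hcS (pow_mem D.w_mem e)
  rw [CfsgLib.PGroup.RankTwo.mul_pow_unipotent h1 h2 h3 hgu (D.wpow_comm hgS _).symm
    (D.wpow_comm huS _).symm p]
  have hp5 := D.hp5
  obtain ⟨q, hq⟩ := hp.out.dvd_choose_self (k := 2) (by norm_num) (by omega)
  obtain ⟨q', hq'⟩ := hp.out.dvd_choose_self (k := 3) (by norm_num) (by omega)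
  have hup : u ^ p = 1 := by
    rw [hu, ((D.wpow_comm hcS e).symm).mul_pow, ← pow_mul, mul_comm c, pow_mul, D.hyp, one_pow,
      one_mul, ← pow_mul, mul_comm, pow_mul, D.w_pow, one_pow]
  have hwp : (D.w ^ (D.s * c * i)) ^ p = 1 := by
    rw [← pow_mul, mul_comm, pow_mul, D.w_pow, one_pow]
  rw [hq, hq', pow_mul, hup, one_pow, pow_mul, hwp, one_pow, mul_one, mul_one, D.yz_pow,
    show t ^ p = 1 by rw [← pow_mul, mul_comm, pow_mul, D.hxp, one_pow], mul_one]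

include D in
/-- The `p`-th power map is a homomorphism. -/
theorem mul_pow {u v : Ω} (hu : u ∈ S) (hv : v ∈ S) : (u * v) ^ p = u ^ p * v ^ p := by
  obtain ⟨j, k, i, rfl⟩ := D.exists_nf hu
  obtain ⟨j', k', i', rfl⟩ := D.exists_nf hv
  obtain ⟨e, he⟩ := D.conj_xpow i j' k'
  have h : D.y ^ j * D.z ^ k * D.x ^ i * (D.y ^ j' * D.z ^ k' * D.x ^ i') =
      D.y ^ (j + (j' + i * D.a * k')) * D.z ^ (k + (k' + p ^ m * e)) * D.x ^ (i + i') := by
    rw [← D.yz_mul, ← D.yzw, ← he, pow_add]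
    group
  rw [h, D.nf_pow, D.nf_pow, D.nf_pow, pow_add, pow_add,
    show (D.z ^ p) ^ (p ^ m * e) = 1 by
      rw [← pow_mul, ← mul_assoc, ← pow_succ', pow_mul, D.hzp, one_pow], mul_one]

theorem pow_mem_zpowers {u : Ω} (hu : u ∈ S) : u ^ p ∈ Subgroup.zpowers (D.z ^ p) := by
  obtain ⟨j, k, i, rfl⟩ := D.exists_nf hu
  rw [D.nf_pow]
  exact pow_mem (Subgroup.mem_zpowers _) k

theorem surjOn : ∀ u : S, ∃ t : Fin p × Fin p × Fin (orderOf D.z),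
    (u : Ω) = D.y ^ (t.1 : ℕ) * D.z ^ (t.2.2 : ℕ) * D.x ^ (t.2.1 : ℕ) := fun u => by
  obtain ⟨j, k, i, h⟩ := D.exists_nf u.2
  have hp0 : 0 < p := hp.out.pos
  have hz0 : 0 < orderOf D.z := orderOf_pos_iff.2
    (isOfFinOrder_iff_pow_eq_one.2 ⟨p ^ (m + 1), pow_pos hp0 _, D.hzp⟩)
  refine ⟨(⟨j % p, Nat.mod_lt _ hp0⟩, ⟨i % p, Nat.mod_lt _ hp0⟩, ⟨k % orderOf D.z, Nat.mod_lt _ hz0⟩), ?_⟩
  show (u : Ω) = D.y ^ (j % p) * D.z ^ (k % orderOf D.z) * D.x ^ (i % p)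
  rw [h, ← pow_eq_pow_mod _ D.hyp, pow_mod_orderOf, ← pow_eq_pow_mod _ D.hxp]

theorem orderOf_z : orderOf D.z = p ^ (m + 1) := by
  have hd := orderOf_dvd_of_pow_eq_one D.hzp
  refine le_antisymm (Nat.le_of_dvd (pow_pos hp.out.pos _) hd) ?_
  choose f hf using D.surjOn
  have hinj : Function.Injective f := fun u v huv => Subtype.ext (by rw [hf u, hf v, huv])
  have h := Nat.card_le_card_of_injective f hinj
  rw [D.card, Nat.card_eq_fintype_card, Fintype.card_prod, Fintype.card_prod, Fintype.card_fin,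
    Fintype.card_fin, ← mul_assoc, show p ^ (m + 3) = p * p * p ^ (m + 1) by ring] at h
  exact Nat.le_of_mul_le_mul_left h (Nat.mul_pos hp.out.pos hp.out.pos)

/-- The normal form is unique. -/
theorem nf_unique {j k i j' k' i' : ℕ}
    (h : D.y ^ j * D.z ^ k * D.x ^ i = D.y ^ j' * D.z ^ k' * D.x ^ i') :
    j % p = j' % p ∧ k % p ^ (m + 1) = k' % p ^ (m + 1) ∧ i % p = i' % p := by
  have hp0 : 0 < p := hp.out.pos
  have hN : 0 < p ^ (m + 1) := pow_pos hp0 _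
  let f : Fin p × Fin p × Fin (p ^ (m + 1)) → S := fun t =>
    ⟨D.y ^ (t.1 : ℕ) * D.z ^ (t.2.2 : ℕ) * D.x ^ (t.2.1 : ℕ), D.nf_mem _ _ _⟩
  have hf : Function.Bijective f := by
    haveI : Finite S := Nat.finite_of_card_ne_zero (by rw [D.card]; exact (pow_pos hp0 _).ne')
    letI := Fintype.ofFinite S
    rw [Fintype.bijective_iff_surjective_and_card]
    constructor
    · intro u
      obtain ⟨t, ht⟩ := D.surjOn u
      refine ⟨(t.1, t.2.1, ⟨t.2.2, lt_of_lt_of_eq t.2.2.2 D.orderOf_z⟩), Subtype.ext ht.symm⟩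
    · rw [← Nat.card_eq_fintype_card (α := S), D.card]
      simp only [Fintype.card_prod, Fintype.card_fin]
      ring
  have h2 := @hf.1 (⟨j % p, Nat.mod_lt _ hp0⟩, ⟨i % p, Nat.mod_lt _ hp0⟩, ⟨k % p ^ (m + 1), Nat.mod_lt _ hN⟩)
    (⟨j' % p, Nat.mod_lt _ hp0⟩, ⟨i' % p, Nat.mod_lt _ hp0⟩, ⟨k' % p ^ (m + 1), Nat.mod_lt _ hN⟩)
    (Subtype.ext (by
      show D.y ^ (j % p) * D.z ^ (k % p ^ (m + 1)) * D.x ^ (i % p) =
        D.y ^ (j' % p) * D.z ^ (k' % p ^ (m + 1)) * D.x ^ (i' % p)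
      rw [← pow_eq_pow_mod _ D.hyp, ← pow_eq_pow_mod _ D.hzp, ← pow_eq_pow_mod _ D.hxp,
        ← pow_eq_pow_mod _ D.hyp, ← pow_eq_pow_mod _ D.hzp, ← pow_eq_pow_mod _ D.hxp, h]))
  simp only [Prod.mk.injEq, Fin.mk.injEq] at h2
  exact ⟨h2.1, h2.2.2, h2.2.1⟩

theorem nf_pow_eq_one {j k i : ℕ} (h : (D.y ^ j * D.z ^ k * D.x ^ i) ^ p = 1) : p ^ m ∣ k := by
  rw [D.nf_pow, ← pow_mul] at h
  have h1 := orderOf_dvd_of_pow_eq_one h
  rw [D.orderOf_z, pow_succ'] at h1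
  exact Nat.dvd_of_mul_dvd_mul_left hp.out.pos h1

include D in
/-- At most `p ^ 3` elements of order dividing `p`. -/
theorem card_omega_le (O : Subgroup S) (hO : ∀ u ∈ O, u ^ p = 1) : Nat.card O ≤ p ^ 3 := by
  have hp0 : 0 < p := hp.out.pos
  have hex : ∀ u : O, ∃ t : Fin p × Fin p × Fin p,
      ((u : S) : Ω) = D.y ^ (t.1 : ℕ) * D.z ^ (p ^ m * t.2.2) * D.x ^ (t.2.1 : ℕ) := fun u => by
    obtain ⟨j, k, i, h⟩ := D.exists_nf (u : S).2
    have h1 : ((u : S) : Ω) ^ p = 1 := by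
      rw [← Subgroup.coe_pow, hO _ u.2, OneMemClass.coe_one]
    rw [h] at h1
    obtain ⟨k', rfl⟩ := D.nf_pow_eq_one h1
    refine ⟨(⟨j % p, Nat.mod_lt _ hp0⟩, ⟨i % p, Nat.mod_lt _ hp0⟩, ⟨k' % p, Nat.mod_lt _ hp0⟩), ?_⟩
    show ((u : S) : Ω) = D.y ^ (j % p) * D.z ^ (p ^ m * (k' % p)) * D.x ^ (i % p)
    rw [h, ← pow_eq_pow_mod _ D.hyp, ← pow_eq_pow_mod _ D.hxp, pow_mul, pow_mul,
      ← pow_eq_pow_mod _ (show (D.z ^ p ^ m) ^ p = 1 from D.w_pow)]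
  choose f hf using hex
  have hinj : Function.Injective f := fun u v huv =>
    Subtype.ext (Subtype.ext (by rw [hf u, hf v, huv]))
  refine (Nat.card_le_card_of_injective f hinj).trans (le_of_eq ?_)
  simp [Nat.card_eq_fintype_card]
  ring

end Data

end CfsgLib.FusionRankTwo
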