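import Mathlib.GroupTheory.PGroup
import Mathlib.Algebra.Group.Subgroup.ZPowers.Basic

/-!
# A torus element in a linear group of degree two with two transvection subgroups
-/

set_option autoImplicit false

namespace CfsgLib.FusionRankTwo

variable {V : Type*} [CommGroup V] {p : ℕ}

theorem pow_eq_of_modEq {x : V} (hx : x ^ p = 1) {i j : ℕ} (h : i ≡ j [MOD p]) : x ^ i = x ^ j := by
  rw [pow_eq_pow_mod i hx, pow_eq_pow_mod j hx, h]

theorem unipotent_pow {a : MulAut V} {x l : V} (hx : a x = x * l) (hl : a l = l) (n : ℕ) :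
    (a ^ n) x = x * l ^ n := by
  induction n with
  | zero => simp
  | succ n ih =>
    rw [pow_succ', MulAut.mul_apply, ih, map_mul, map_pow, hx, hl, pow_succ', mul_assoc]

theorem fixed_pow {a : MulAut V} {l : V} (hl : a l = l) (n : ℕ) : (a ^ n) l = l := by
  induction n with
  | zero => rfl
  | succ n ih => rw [pow_succ', MulAut.mul_apply, ih, hl]

theorem exists_pow_inverse [hp : Fact p.Prime] {c : ℕ} (hc : ¬ p ∣ c) : ∃ e, c * e ≡ 1 [MOD p] := by
  obtain ⟨e, he⟩ := Nat.exists_mul_mod_eq_one_of_coprime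
    (hp.out.coprime_iff_not_dvd.2 hc).symm hp.out.one_lt
  exact ⟨e, by rw [Nat.ModEq, he.2, Nat.mod_eq_of_lt hp.out.one_lt]⟩

variable [Finite V]

theorem exists_coords {x y : V} (htop : Subgroup.zpowers x ⊔ Subgroup.zpowers y = ⊤) (u : V) :
    ∃ i j : ℕ, u = x ^ i * y ^ j := by
  have hu : u ∈ Subgroup.zpowers x ⊔ Subgroup.zpowers y := htop ▸ Subgroup.mem_top u
  obtain ⟨a, ha, b, hb, rfl⟩ := Subgroup.mem_sup.1 hu
  obtain ⟨i, hi⟩ := (isOfFinOrder_of_finite x).mem_powers_iff_mem_zpowers.2 ha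
  obtain ⟨j, hj⟩ := (isOfFinOrder_of_finite y).mem_powers_iff_mem_zpowers.2 hb
  exact ⟨i, j, by rw [← hi, ← hj]⟩

/-- If a group of automorphisms of an elementary abelian group generated by `v` and `l` contains the
transvection `v ↦ v l` and moves `⟨l⟩`, it contains an element fixing `⟨l⟩` and squaring `v`
modulo `⟨l⟩` (`p` odd). -/
theorem exists_torus [hp : Fact p.Prime] (hp2 : p ≠ 2) (hV : ∀ u : V, u ^ p = 1)
    {G : Subgroup (MulAut V)} {α : MulAut V} (hα : α ∈ G) {v l : V} (hαl : α l = l)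
    (hαv : α v = v * l) (htop : Subgroup.zpowers v ⊔ Subgroup.zpowers l = ⊤)
    {γ : MulAut V} (hγ : γ ∈ G) (hmove : γ l ∉ Subgroup.zpowers l) :
    ∃ h ∈ G, h l ∈ Subgroup.zpowers l ∧ (v ^ 2)⁻¹ * h v ∈ Subgroup.zpowers l := by
  obtain ⟨c, d, hcd⟩ := exists_coords htop (γ l)
  set l' := γ l with hl'
  have hc : ¬ p ∣ c := by
    rintro ⟨c', rfl⟩
    apply hmove
    rw [hcd, pow_mul, hV, one_pow, one_mul]
    exact pow_mem (Subgroup.mem_zpowers l) d
  obtain ⟨c', hc'⟩ := exists_pow_inverse hc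
  -- `a i` acts by `l ↦ l`, `l' ↦ l' l ^ i`
  have hα' : α l' = l' * l ^ c := by
    rw [hcd, map_mul, map_pow, map_pow, hαv, hαl, mul_pow, mul_right_comm]
  have ha : ∀ i : ℕ, ∃ a ∈ G, a l = l ∧ a l' = l' * l ^ i := fun i => by
    refine ⟨α ^ (c' * i), pow_mem hα _, fixed_pow hαl _, ?_⟩
    rw [unipotent_pow hα' (by rw [map_pow, hαl]), ← pow_mul, ← mul_assoc]
    congr 1
    exact pow_eq_of_modEq (hV l) (by simpa using Nat.ModEq.mul_right i hc')
  -- `v` in the coordinates `l, l'`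
  have hvmem : v ∈ Subgroup.zpowers l' ⊔ Subgroup.zpowers l := by
    have h1 : v ^ c ∈ Subgroup.zpowers l' ⊔ Subgroup.zpowers l := by
      have h2 : v ^ c = l' * (l ^ d)⁻¹ := by rw [hcd, mul_inv_cancel_right]
      rw [h2]
      exact mul_mem (Subgroup.mem_sup_left (Subgroup.mem_zpowers _))
        (Subgroup.mem_sup_right (inv_mem (pow_mem (Subgroup.mem_zpowers _) d)))
    have h3 : v = (v ^ c) ^ c' := by
      rw [← pow_mul, pow_eq_of_modEq (hV v) hc', pow_one]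
    rw [h3]
    exact pow_mem h1 c'
  have htop' : Subgroup.zpowers l' ⊔ Subgroup.zpowers l = ⊤ := by
    rw [eq_top_iff, ← htop]
    exact sup_le (Subgroup.zpowers_le.2 hvmem) le_sup_right
  obtain ⟨f, e, hfe⟩ := exists_coords htop' (γ v)
  have he : ¬ p ∣ e := by
    rintro ⟨e', rfl⟩
    have h1 : γ v = γ (l ^ f) := by
      rw [hfe, pow_mul, hV, one_pow, mul_one, hl', map_pow]
    have h2 : v ∈ Subgroup.zpowers l := γ.injective h1 ▸ pow_mem (Subgroup.mem_zpowers l) f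
    apply hmove
    have h3 : l' ∈ Subgroup.zpowers l := by
      rw [hcd]
      exact mul_mem (pow_mem h2 c) (pow_mem (Subgroup.mem_zpowers l) d)
    exact h3
  obtain ⟨e', he'⟩ := exists_pow_inverse he
  set β := γ * α * γ⁻¹ with hβ
  have hβl' : β l' = l' := by
    rw [hβ, hl']
    simp only [MulAut.mul_apply, MulAut.inv_apply_self, hαl]
  have hβγ : β (γ v) = γ v * l' := by
    rw [hβ]
    simp only [MulAut.mul_apply, MulAut.inv_apply_self, hαv, map_mul, ← hl']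
  have hβe : β (l ^ e) = l ^ e * l' := by
    have h1 := hβγ
    rw [hfe, map_mul, map_pow (f := β) (a := l'), hβl', mul_assoc] at h1
    exact mul_left_cancel h1
  have hβl : β l = l * l' ^ e' := by
    have h1 : l = (l ^ e) ^ e' := by rw [← pow_mul, pow_eq_of_modEq (hV l) he', pow_one]
    conv_lhs => rw [h1, map_pow, hβe, mul_pow, ← h1]
  have hb : ∀ i : ℕ, ∃ b ∈ G, b l' = l' ∧ b l = l * l' ^ i := fun i => by
    refine ⟨β ^ (e * i), pow_mem (mul_mem (mul_mem hγ hα) (inv_mem hγ)) _, fixed_pow hβl' _, ?_⟩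
    rw [unipotent_pow hβl (by rw [map_pow, hβl']), ← pow_mul, ← mul_assoc, mul_comm e' e]
    congr 1
    exact pow_eq_of_modEq (hV l') (by simpa using Nat.ModEq.mul_right i he')
  -- the torus element
  obtain ⟨t, ht⟩ : ∃ t, p = 2 * t + 1 := hp.out.odd_of_ne_two hp2
  obtain ⟨a₁, ha₁, ha₁l, ha₁l'⟩ := ha t
  obtain ⟨b₁, hb₁, hb₁l', hb₁l⟩ := hb 2
  obtain ⟨a₂, ha₂, ha₂l, ha₂l'⟩ := ha 1
  obtain ⟨b₂, hb₂, hb₂l', hb₂l⟩ := hb (p - 1)
  set w₁ := a₁ * b₁ * a₁ with hw₁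
  set w₂ := a₂ * b₂ * a₂ with hw₂
  have hp' : ∀ (x : V), x ^ (p - 1) * x = 1 := fun x => by
    rw [← pow_succ, Nat.sub_add_cancel hp.out.pos, hV]
  have hw₁l : w₁ l = l' ^ 2 := by
    simp only [hw₁, MulAut.mul_apply, ha₁l, hb₁l, map_mul, map_pow, ha₁l', mul_pow]
    rw [mul_left_comm, ← pow_mul, ← pow_succ', show t * 2 + 1 = p by omega, hV, mul_one]
  have hw₁l' : w₁ l' = l ^ t := by
    simp only [hw₁, MulAut.mul_apply, ha₁l', ha₁l, hb₁l, hb₁l', map_mul, map_pow, mul_pow]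
    rw [← pow_mul, ← pow_mul, ← pow_mul]
    have h1 : l' ^ (2 * t) * l' = 1 := by rw [← pow_succ, show 2 * t + 1 = p by omega, hV]
    have h2 : l ^ (t * (2 * t)) * l ^ t = 1 := by
      rw [← pow_add, show t * (2 * t) + t = t * p by rw [ht]; ring, mul_comm, pow_mul, hV, one_pow]
    calc l' * l ^ t * (l ^ t * (l' ^ (2 * t) * l ^ (t * (2 * t))))
        = (l' ^ (2 * t) * l') * (l ^ (t * (2 * t)) * l ^ t) * l ^ t := by
          ac_rfl
      _ = l ^ t := by rw [h1, h2, one_mul, one_mul]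
  have hw₂l : w₂ l = l' ^ (p - 1) := by
    simp only [hw₂, MulAut.mul_apply, ha₂l, hb₂l, map_mul, map_pow, ha₂l', mul_pow, pow_one]
    rw [mul_left_comm, mul_comm l, hp', mul_one]
  have hw₂l' : w₂ l' = l := by
    simp only [hw₂, MulAut.mul_apply, ha₂l', ha₂l, hb₂l, hb₂l', map_mul, map_pow, mul_pow, pow_one]
    calc l' * l * (l * (l' ^ (p - 1) * l ^ (p - 1)))
        = (l' ^ (p - 1) * l') * (l ^ (p - 1) * l) * l := by ac_rfl
      _ = l := by rw [hp', hp', one_mul, one_mul]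
  refine ⟨w₁ * w₂, mul_mem (mul_mem (mul_mem ha₁ hb₁) ha₁) (mul_mem (mul_mem ha₂ hb₂) ha₂), ?_, ?_⟩
  · rw [MulAut.mul_apply, hw₂l, map_pow, hw₁l']
    exact pow_mem (pow_mem (Subgroup.mem_zpowers l) t) _
  · set h := w₁ * w₂ with hh
    have hhl : h l ∈ Subgroup.zpowers l := by
      rw [hh, MulAut.mul_apply, hw₂l, map_pow, hw₁l']
      exact pow_mem (pow_mem (Subgroup.mem_zpowers l) t) _
    have hhl' : h l' = l' ^ 2 := by rw [hh, MulAut.mul_apply, hw₂l', hw₁l]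
    have h1 : ((v ^ 2)⁻¹ * h v) ^ c = (l ^ d) ^ 2 * (h (l ^ d))⁻¹ := by
      have h2 : h (v ^ c) * h (l ^ d) = (v ^ c) ^ 2 * (l ^ d) ^ 2 := by
        rw [← map_mul, ← mul_pow, ← hcd, hhl']
      rw [mul_pow, inv_pow, ← map_pow, ← pow_mul, mul_comm 2 c, pow_mul, eq_mul_inv_iff_mul_eq,
        mul_assoc, h2, inv_mul_cancel_left]
    have h3 : ((v ^ 2)⁻¹ * h v) ^ c ∈ Subgroup.zpowers l := by
      rw [h1, map_pow]
      exact mul_mem (pow_mem (pow_mem (Subgroup.mem_zpowers l) d) 2) (inv_mem (pow_mem hhl d))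
    have h4 := pow_mem h3 c'
    rwa [← pow_mul, pow_eq_of_modEq (hV _) hc', pow_one] at h4

end CfsgLib.FusionRankTwo
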