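import Cfsg.Agent.Lib.FusionRankTwo.Aut
import Cfsg.Agent.Lib.FusionRankTwo.Chain
import Cfsg.Agent.Lib.FusionRankTwo.Torus
import Mathlib.GroupTheory.QuotientGroup.Basic

/-!
# The rank two groups are resistant
-/

set_option autoImplicit false
set_option linter.style.haveILetI false

namespace CfsgLib.FusionRankTwo

open Cfsg Cfsg.FusionSystem CfsgLib.Fusion

variable {Ω : Type*} [Group Ω] {S : Subgroup Ω} {p : ℕ}

/-- The torus element in a group of automorphisms acting on a quotient `X ⧸ C ≅ p²`. -/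
theorem exists_torus_quot [Fact p.Prime] {X : Type*} [Group X] [Finite X] (hp2 : p ≠ 2)
    {C : Subgroup X} [C.Normal] (hcomm : ∀ u v : X, u * v * u⁻¹ * v⁻¹ ∈ C)
    (hexp : ∀ u : X, u ^ p ∈ C) {G : Subgroup (MulAut X)} (hGC : ∀ g ∈ G, ∀ u ∈ C, g u ∈ C)
    {α : MulAut X} (hα : α ∈ G) {v l : X} (hαl : l⁻¹ * α l ∈ C) (hαv : (v * l)⁻¹ * α v ∈ C)
    (htop : C ⊔ Subgroup.zpowers v ⊔ Subgroup.zpowers l = ⊤) {γ : MulAut X} (hγ : γ ∈ G)
    (hmove : γ l ∉ C ⊔ Subgroup.zpowers l) :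
    ∃ h ∈ G, h l ∈ C ⊔ Subgroup.zpowers l ∧ (v ^ 2)⁻¹ * h v ∈ C ⊔ Subgroup.zpowers l := by
  letI : CommGroup (X ⧸ C) :=
    { (inferInstance : Group (X ⧸ C)) with
      mul_comm := fun a b => by
        obtain ⟨u, rfl⟩ := QuotientGroup.mk'_surjective C a
        obtain ⟨w, rfl⟩ := QuotientGroup.mk'_surjective C b
        rw [← map_mul, ← map_mul]
        have h1 : QuotientGroup.mk' C (u * w * u⁻¹ * w⁻¹) = 1 :=
          (QuotientGroup.eq_one_iff _).2 (hcomm u w)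
        rw [show u * w = u * w * u⁻¹ * w⁻¹ * (w * u) by group, map_mul, h1, one_mul] }
  have hmapeq : ∀ g ∈ G, C.map (g : X ≃* X).toMonoidHom = C := fun g hg =>
    Subgroup.eq_of_le_of_card_ge (fun u ⟨c, hc, hu⟩ => hu ▸ hGC g hg c hc)
      (Subgroup.card_map_of_injective (f := (g : X ≃* X).toMonoidHom) g.injective).ge
  let ρ : G →* MulAut (X ⧸ C) :=
    { toFun := fun g => QuotientGroup.congr C C (g : MulAut X) (hmapeq _ g.2)
      map_one' := MulEquiv.ext fun q => by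
        obtain ⟨u, rfl⟩ := QuotientGroup.mk'_surjective C q
        rfl
      map_mul' := fun a b => MulEquiv.ext fun q => by
        obtain ⟨u, rfl⟩ := QuotientGroup.mk'_surjective C q
        rfl }
  set π := QuotientGroup.mk' C
  have hρ : ∀ (g : G) (u : X), ρ g (π u) = π ((g : MulAut X) u) := fun g u => rfl
  have hmem : ∀ u : X, π u ∈ Subgroup.zpowers (π l) ↔ u ∈ C ⊔ Subgroup.zpowers l := by
    intro u
    rw [← MonoidHom.map_zpowers, ← Subgroup.mem_comap, Subgroup.comap_map_eq,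
      QuotientGroup.ker_mk', sup_comm]
  have hπC : ∀ {a b : X}, a⁻¹ * b ∈ C → π b = π a := fun h => (QuotientGroup.eq.2 h).symm
  obtain ⟨_, ⟨h, rfl⟩, h1, h2⟩ := exists_torus (p := p) hp2 (V := X ⧸ C) (G := ρ.range)
    (fun q => by
      obtain ⟨u, rfl⟩ := QuotientGroup.mk'_surjective C q
      rw [← map_pow]
      exact (QuotientGroup.eq_one_iff _).2 (hexp u))
    (α := ρ ⟨α, hα⟩) ⟨_, rfl⟩ (v := π v) (l := π l)
    (by rw [hρ]; exact hπC hαl)
    (by rw [hρ, ← map_mul]; exact hπC hαv)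
    (by
      rw [← MonoidHom.map_zpowers, ← MonoidHom.map_zpowers, ← Subgroup.map_sup, eq_top_iff]
      intro q _
      obtain ⟨u, rfl⟩ := QuotientGroup.mk'_surjective C q
      have hu : u ∈ C ⊔ (Subgroup.zpowers v ⊔ Subgroup.zpowers l) := by
        rw [← sup_assoc, htop]; exact Subgroup.mem_top u
      rw [Subgroup.mem_sup_of_normal_left] at hu
      obtain ⟨c, hc, t, ht, rfl⟩ := hu
      exact ⟨t, ht, by rw [map_mul, show π c = 1 from (QuotientGroup.eq_one_iff _).2 hc, one_mul]⟩)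
    (γ := ρ ⟨γ, hγ⟩) ⟨_, rfl⟩ (by rw [hρ, hmem]; exact hmove)
  refine ⟨h, h.2, ?_, ?_⟩
  · rwa [hρ, hmem] at h1
  · rwa [hρ, ← map_pow, ← map_inv, ← map_mul, hmem] at h2

variable {F : Cfsg.FusionSystem S}

/-- An essential subgroup on which the `p`-th power map is a nontrivial homomorphism with cyclic
image and small kernel does not exist. -/
theorem false_of_powers [Finite S] [Fact p.Prime] (hS : IsPGroup p S) (hF : F.IsSaturated p)
    {E : Subgroup Ω} (hE : F.IsEssential p E) (hlt : E < S)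
    (hpow : ∀ u v : E, (u * v) ^ p = u ^ p * v ^ p) {ζ : Ω}
    (hcyc : ∀ u : E, (u : Ω) ^ p ∈ Subgroup.zpowers ζ) (hne : ∃ u : E, u ^ p ≠ 1)
    (hsmall : ∀ K : Subgroup E, (∀ u ∈ K, u ^ p = 1) → Nat.card K ≤ p ^ 2) : False := by
  classical
  have hp : p.Prime := Fact.out
  haveI : Finite E := finite_of_le hlt.le
  have hEp : IsPGroup p E := hS.to_le hlt.le
  let P : E →* E := MonoidHom.mk' (fun u => u ^ p) hpow
  have hP : ∀ u, P u = u ^ p := fun _ => rfl
  have hker : ∀ u, u ∈ P.ker ↔ u ^ p = 1 := fun u => MonoidHom.mem_ker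
  have hrc : IsCyclic P.range := by
    have hle : P.range.map E.subtype ≤ Subgroup.zpowers ζ := by
      rintro _ ⟨_, ⟨u, rfl⟩, rfl⟩
      exact hcyc u
    haveI : IsCyclic (P.range.map E.subtype) := Subgroup.isCyclic_of_le hle
    let e := Subgroup.equivMapOfInjective P.range E.subtype (Subgroup.subtype_injective E)
    exact isCyclic_of_surjective e.symm.toMonoidHom e.symm.surjective
  have hrn : P.range.Normal := ⟨by
    rintro _ ⟨u, rfl⟩ g
    exact ⟨g * u * g⁻¹, by rw [hP, hP, conj_pow]⟩⟩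
  obtain ⟨u₀, hu₀⟩ := hne
  obtain ⟨ρ₀, hρ₀⟩ := (Subgroup.isCyclic_iff_exists_zpowers_eq_top P.range).1 hrc
  obtain ⟨e₀, he₀⟩ : ρ₀ ∈ P.range := hρ₀ ▸ Subgroup.mem_zpowers ρ₀
  haveI : IsCyclic ↥(P.ker ⊓ P.range) := Subgroup.isCyclic_of_le inf_le_right
  obtain ⟨a, ha⟩ :=
    (Subgroup.isCyclic_iff_exists_zpowers_eq_top (P.ker ⊓ P.range)).1 inferInstance
  have hA1 : p ≤ Nat.card ↥(P.ker ⊓ P.range) := by
    obtain ⟨k, hk0, hk⟩ : ∃ k, 0 < k ∧ orderOf (u₀ ^ p) = p ^ k := by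
      obtain ⟨k, hk⟩ := IsPGroup.iff_orderOf.1 hEp (u₀ ^ p)
      refine ⟨k, Nat.pos_of_ne_zero fun h => hu₀ ?_, hk⟩
      rw [h, pow_zero, orderOf_eq_one_iff] at hk
      exact hk
    set t := (u₀ ^ p) ^ p ^ (k - 1) with ht
    have hto : orderOf t = p := by
      rw [ht, orderOf_pow' _ (pow_pos hp.pos _).ne', hk,
        Nat.gcd_eq_right (pow_dvd_pow p (by omega)), Nat.pow_div (by omega) hp.pos,
        show k - (k - 1) = 1 by omega, pow_one]
    have htm : t ∈ P.ker ⊓ P.range :=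
      ⟨(hker _).2 (hto ▸ pow_orderOf_eq_one t), pow_mem (show u₀ ^ p ∈ P.range from ⟨u₀, rfl⟩) _⟩
    rw [← hto, ← Nat.card_zpowers]
    exact Subgroup.card_le_of_le (Subgroup.zpowers_le.2 htm)
  obtain ⟨b, hb⟩ : ∃ b, P.ker = (P.ker ⊓ P.range) ⊔ Subgroup.zpowers b := by
    by_cases h : P.ker ≤ P.range
    · exact ⟨1, by rw [Subgroup.zpowers_one_eq_bot, sup_bot_eq, inf_eq_left.2 h]⟩
    obtain ⟨b, hb, hb'⟩ := SetLike.not_le_iff_exists.1 h
    refine ⟨b, ?_⟩
    set K := (P.ker ⊓ P.range) ⊔ Subgroup.zpowers b with hK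
    have hKle : K ≤ P.ker := sup_le inf_le_left (Subgroup.zpowers_le.2 hb)
    have hlt' : P.ker ⊓ P.range < K := by
      refine lt_of_le_of_ne le_sup_left fun e => hb' ?_
      have : b ∈ P.ker ⊓ P.range := e ▸ Subgroup.mem_sup_right (Subgroup.mem_zpowers b)
      exact this.2
    obtain ⟨i, hi⟩ := IsPGroup.iff_card.1 (hEp.to_subgroup (P.ker ⊓ P.range))
    obtain ⟨i', hi'⟩ := IsPGroup.iff_card.1 (hEp.to_subgroup K)
    have hlt2 : Nat.card ↥(P.ker ⊓ P.range) < Nat.card K :=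
      lt_of_le_of_ne (Subgroup.card_le_of_le hlt'.le) fun e =>
        hlt'.ne (Subgroup.eq_of_le_of_card_ge hlt'.le e.ge)
    have h1 := (hsmall P.ker fun u hu => (hker u).1 hu)
    refine (Subgroup.eq_of_le_of_card_ge hKle ?_).symm
    rw [hi] at hA1 hlt2
    rw [hi'] at hlt2 ⊢
    have hi1 : 1 ≤ i := (Nat.pow_le_pow_iff_right hp.one_lt).1 (by rwa [pow_one])
    have hlt3 := (Nat.pow_lt_pow_iff_right hp.one_lt).1 hlt2
    exact h1.trans (Nat.pow_le_pow_right hp.pos (by omega))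
  let c : CyclicSeries E :=
    { A := P.ker ⊓ P.range
      B := P.ker
      hA := ⟨fun u hu g => ⟨(inferInstance : P.ker.Normal).conj_mem u hu.1 g, hrn.conj_mem u hu.2 g⟩⟩
      hB := inferInstance
      stepA := ⟨a, ha.symm⟩
      stepB := ⟨b, hb⟩
      stepTop := ⟨e₀, by
        refine (eq_top_iff.2 fun u _ => ?_).symm
        obtain ⟨i, hi⟩ := Subgroup.mem_zpowers_iff.1 (hρ₀.ge ⟨u, rfl⟩ : P u ∈ Subgroup.zpowers ρ₀)
        rw [show u = u * (e₀ ^ i)⁻¹ * e₀ ^ i by group]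
        refine mul_mem (Subgroup.mem_sup_left ?_)
          (Subgroup.mem_sup_right (zpow_mem (Subgroup.mem_zpowers _) i))
        rw [MonoidHom.mem_ker, map_mul, map_inv, map_zpow, he₀, hi, mul_inv_cancel]⟩ }
  have hkinv : ∀ g : MulAut E, ∀ u ∈ P.ker, g u ∈ P.ker := fun g u hu => by
    rw [hker] at hu ⊢
    rw [← map_pow, hu, map_one]
  refine false_of_essential hS hF hE hlt c fun g _ => ⟨fun u hu => ⟨hkinv g u hu.1, ?_⟩, hkinv g⟩
  obtain ⟨v, hv⟩ := hu.2
  exact ⟨g v, by rw [hP, ← map_pow, ← hP, hv]⟩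

namespace Data

variable {m : ℕ} (D : Data S p m) [hp : Fact p.Prime]

/-- The maximal subgroup `⟨x, y, z ^ p⟩`. -/
def M (D : Data S p m) : Subgroup Ω where
  carrier := {u | u ∈ S ∧ u ^ p ∈ Subgroup.zpowers ((D.z ^ p) ^ p)}
  one_mem' := ⟨S.one_mem, by rw [one_pow]; exact one_mem _⟩
  mul_mem' := fun {u v} hu hv =>
    ⟨S.mul_mem hu.1 hv.1, by rw [D.mul_pow hu.1 hv.1]; exact mul_mem hu.2 hv.2⟩
  inv_mem' := fun {u} hu => ⟨S.inv_mem hu.1, by rw [inv_pow]; exact inv_mem hu.2⟩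

theorem M_le : D.M ≤ S := fun _ hu => hu.1

theorem nf_mem_M {j k i : ℕ} : D.y ^ j * D.z ^ k * D.x ^ i ∈ D.M ↔ p ∣ k := by
  constructor
  · rintro ⟨-, hu⟩
    rw [D.nf_pow] at hu
    obtain ⟨t, ht⟩ := Subgroup.mem_zpowers_iff.1 hu
    have h1 : D.z ^ ((p : ℤ) * k) = D.z ^ ((p : ℤ) * p * t) := by
      rw [zpow_mul, zpow_mul, zpow_mul, zpow_natCast, zpow_natCast, zpow_natCast]
      exact ht.symm
    rw [← orderOf_dvd_sub_iff_zpow_eq_zpow, D.orderOf_z] at h1
    have h2 : (p : ℤ) * p ∣ (p : ℤ) * k - p * p * t := by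
      refine dvd_trans ?_ h1
      exact_mod_cast (show p * p ∣ p ^ (m + 1) by
        rw [← pow_two]; exact pow_dvd_pow p (by have := D.hm; omega))
    have h3 : (p : ℤ) * p ∣ (p : ℤ) * k := by
      simpa using dvd_add h2 (dvd_mul_right ((p : ℤ) * p) t)
    exact_mod_cast Int.dvd_of_mul_dvd_mul_left (by exact_mod_cast hp.out.ne_zero) h3
  · rintro ⟨k', rfl⟩
    refine ⟨D.nf_mem _ _ _, ?_⟩
    rw [D.nf_pow, pow_mul]
    exact pow_mem (Subgroup.mem_zpowers _) k'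

theorem mem_M {u : Ω} : u ∈ D.M ↔ ∃ j t i : ℕ, u = D.y ^ j * (D.z ^ p) ^ t * D.x ^ i := by
  constructor
  · intro hu
    obtain ⟨j, k, i, rfl⟩ := D.exists_nf hu.1
    obtain ⟨t, rfl⟩ := D.nf_mem_M.1 hu
    exact ⟨j, t, i, by rw [pow_mul]⟩
  · rintro ⟨j, t, i, rfl⟩
    rw [← pow_mul]
    exact D.nf_mem_M.2 (dvd_mul_right p t)

theorem x_mem_M : D.x ∈ D.M := D.mem_M.2 ⟨0, 0, 1, by simp⟩

theorem y_mem_M : D.y ∈ D.M := D.mem_M.2 ⟨1, 0, 0, by simp⟩

theorem zp_mem_M : D.z ^ p ∈ D.M := D.mem_M.2 ⟨0, 1, 0, by simp⟩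

theorem L_le_M : D.L ≤ D.M :=
  sup_le (Subgroup.zpowers_le.2 D.y_mem_M) (Subgroup.zpowers_le.2 D.zp_mem_M)

theorem z_notMem_M : D.z ∉ D.M := fun h => by
  have h1 := D.nf_mem_M.1 (show D.y ^ 0 * D.z ^ 1 * D.x ^ 0 ∈ D.M by simpa using h)
  exact hp.out.one_lt.ne' (Nat.dvd_one.1 h1)

theorem normalizerIn_M [Finite S] : normalizerIn S D.M = S := by
  refine le_antisymm inf_le_left fun g hg => ⟨hg, ?_⟩
  haveI : Finite D.M := finite_of_le D.M_le
  refine Subgroup.mem_normalizer_fintype fun u hu => ⟨S.mul_mem (S.mul_mem hg hu.1) (S.inv_mem hg), ?_⟩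
  obtain ⟨t, ht⟩ := Subgroup.mem_zpowers_iff.1 (D.pow_mem_zpowers hu.1)
  rw [conj_pow, ← ht, ← ((D.zp_comm hg).zpow_left t).eq, mul_inv_cancel_right, ht]
  exact hu.2

theorem isFullyNormalized_M [Finite S] (F : Cfsg.FusionSystem S) : F.IsFullyNormalized D.M :=
  ⟨D.M_le, fun Q _ => by
    rw [D.normalizerIn_M]
    exact Subgroup.card_le_of_le inf_le_left⟩

theorem le_normalizer_L [Finite S] : S ≤ Subgroup.normalizer (D.L : Set Ω) := by
  haveI : Finite D.L := finite_of_le D.L_le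
  conv_lhs => rw [← D.gen]
  rw [Subgroup.closure_le]
  intro g hg
  have hgS : g ∈ S := by
    rw [← D.gen]; exact Subgroup.subset_closure hg
  have hgy : g * D.y * g⁻¹ ∈ D.L := by
    simp only [Set.mem_insert_iff, Set.mem_singleton_iff] at hg
    rcases hg with rfl | rfl | rfl
    · rw [D.hxy']
      exact mul_mem (Subgroup.mem_sup_left (Subgroup.mem_zpowers _))
        (Subgroup.mem_sup_right (pow_mem D.w_mem_zpowers _))
    · rw [mul_inv_cancel_right]
      exact Subgroup.mem_sup_left (Subgroup.mem_zpowers _)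
    · rw [← D.hyz.eq, mul_inv_cancel_right]
      exact Subgroup.mem_sup_left (Subgroup.mem_zpowers _)
  refine Subgroup.mem_normalizer_fintype fun u hu => ?_
  obtain ⟨ν, t, rfl⟩ := D.mem_L.1 hu
  rw [← conj_mul, ← conj_pow, show g * (D.z ^ p) ^ t * g⁻¹ = (D.z ^ p) ^ t by
    rw [← ((D.zp_comm hgS).pow_left t).eq, mul_inv_cancel_right]]
  exact mul_mem (pow_mem hgy ν) (Subgroup.mem_sup_right (pow_mem (Subgroup.mem_zpowers _) t))

/-- The series `1 ≤ ⟨z ^ p⟩ ≤ L ≤ M`. -/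
def C (D : Data S p m) : Subgroup D.M := (Subgroup.zpowers (D.z ^ p)).subgroupOf D.M

theorem mem_C {u : D.M} : u ∈ D.C ↔ (u : Ω) ∈ Subgroup.zpowers (D.z ^ p) := Iff.rfl

theorem C_eq_zpowers : D.C = Subgroup.zpowers (⟨D.z ^ p, D.zp_mem_M⟩ : D.M) := by
  ext u
  rw [mem_C, Subgroup.mem_zpowers_iff, Subgroup.mem_zpowers_iff]
  exact exists_congr fun i => by rw [Subtype.ext_iff, Subgroup.coe_zpow]

theorem C_eq_center : D.C = Subgroup.center D.M := by
  refine le_antisymm (fun u hu => Subgroup.mem_center_iff.2 fun g => Subtype.ext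
    ((D.zp_pow_comm g.2.1 (D.mem_C.1 hu)).symm.eq)) fun u hu => ?_
  rw [Subgroup.mem_center_iff] at hu
  obtain ⟨j, t, i, h⟩ := D.mem_M.1 u.2
  have hzc : ∀ g ∈ S, Commute ((D.z ^ p) ^ t) g := fun g hg => (D.zp_comm hg).pow_left t
  have hxu : D.x * (u : Ω) = (u : Ω) * D.x := congrArg Subtype.val (hu ⟨D.x, D.x_mem_M⟩)
  have hyu : D.y * (u : Ω) = (u : Ω) * D.y := congrArg Subtype.val (hu ⟨D.y, D.y_mem_M⟩)
  rw [h] at hxu hyu
  have hj : p ∣ j := by
    have h1 : D.x * D.y ^ j * D.x⁻¹ = D.y ^ j := by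
      have h2 : D.x * D.y ^ j * D.x⁻¹ * ((D.z ^ p) ^ t * D.x ^ i) =
          D.y ^ j * ((D.z ^ p) ^ t * D.x ^ i) := by
        calc _ = D.x * D.y ^ j * (D.x⁻¹ * (D.z ^ p) ^ t * D.x) * D.x ^ i * D.x⁻¹ := by group
          _ = D.x * (D.y ^ j * (D.z ^ p) ^ t * D.x ^ i) * D.x⁻¹ := by
              rw [mul_assoc D.x⁻¹, (hzc _ D.hxS).eq, inv_mul_cancel_left]
              group
          _ = _ := by rw [hxu]; group
      exact mul_right_cancel h2
    rw [D.conj_x_y] at h1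
    have h3 : D.w ^ (D.s * j) = D.w ^ 0 := by rw [pow_zero]; exact mul_eq_left.1 h1
    have h4 := D.cast_eq_of_wpow h3
    rw [Nat.cast_zero, ZMod.natCast_eq_zero_iff] at h4
    exact (hp.out.dvd_mul.1 h4).resolve_left D.hs
  have hy1 : D.y ^ j = 1 := by
    obtain ⟨j', rfl⟩ := hj
    rw [pow_mul, D.hyp, one_pow]
  rw [hy1, one_mul] at hyu h
  have hi : p ∣ i := by
    have h1 : D.x ^ i * D.y ^ 1 * (D.x ^ i)⁻¹ = D.y := by
      rw [pow_one]
      have h2 : (D.z ^ p) ^ t * (D.x ^ i * D.y) = (D.z ^ p) ^ t * (D.y * D.x ^ i) := by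
        rw [← mul_assoc, ← hyu, ← mul_assoc, ← mul_assoc, (hzc _ D.hyS).eq]
      rw [mul_left_cancel h2, mul_inv_cancel_right]
    rw [D.conj_xpow_y, pow_one] at h1
    have h3 : D.w ^ (D.s * 1 * i) = D.w ^ 0 := by rw [pow_zero]; exact mul_eq_left.1 h1
    have h4 := D.cast_eq_of_wpow h3
    rw [Nat.cast_zero, ZMod.natCast_eq_zero_iff, mul_one] at h4
    exact (hp.out.dvd_mul.1 h4).resolve_left D.hs
  obtain ⟨i', rfl⟩ := hi
  rw [pow_mul D.x, D.hxp, one_pow, mul_one] at h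
  rw [mem_C, h]
  exact pow_mem (Subgroup.mem_zpowers _) t

theorem C_normal : D.C.Normal := by rw [D.C_eq_center]; infer_instance

theorem C_invariant (g : MulAut D.M) : ∀ u ∈ D.C, g u ∈ D.C := by
  intro u hu
  rw [D.C_eq_center] at hu ⊢
  rw [Subgroup.mem_center_iff] at hu ⊢
  intro v
  have := congrArg g (hu (g.symm v))
  rwa [map_mul, map_mul, MulEquiv.apply_symm_apply] at this

theorem L_subgroupOf : D.L.subgroupOf D.M = D.C ⊔ Subgroup.zpowers (⟨D.y, D.y_mem_M⟩ : D.M) := by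
  refine le_antisymm (fun u hu => ?_)
    (sup_le (fun u hu => Subgroup.mem_subgroupOf.2 (Subgroup.mem_sup_right hu))
      (Subgroup.zpowers_le.2 (Subgroup.mem_subgroupOf.2
        (Subgroup.mem_sup_left (Subgroup.mem_zpowers _)))))
  obtain ⟨ν, t, h⟩ := D.mem_L.1 (Subgroup.mem_subgroupOf.1 hu)
  rw [show u = ⟨D.y, D.y_mem_M⟩ ^ ν * ⟨D.z ^ p, D.zp_mem_M⟩ ^ t from Subtype.ext (by
    rw [h, Subgroup.coe_mul, Subgroup.coe_pow, Subgroup.coe_pow])]
  exact mul_mem (Subgroup.mem_sup_right (pow_mem (Subgroup.mem_zpowers _) ν))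
    (Subgroup.mem_sup_left (pow_mem (D.mem_C.2 (Subgroup.mem_zpowers _)) t))

/-- The series on `M`. -/
def series [Finite S] : CyclicSeries D.M where
  A := D.C
  B := D.L.subgroupOf D.M
  hA := D.C_normal
  hB := ⟨fun u hu g => conj_mem_of_mem_normalizer (D.le_normalizer_L (D.M_le g.2)) hu⟩
  stepA := ⟨_, D.C_eq_zpowers⟩
  stepB := ⟨_, D.L_subgroupOf⟩
  stepTop := ⟨⟨D.x, D.x_mem_M⟩, by
    refine (eq_top_iff.2 fun u _ => ?_).symm
    obtain ⟨j, t, i, h⟩ := D.mem_M.1 u.2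
    have hy : D.y ^ j * (D.z ^ p) ^ t ∈ D.L := D.mem_L.2 ⟨j, t, rfl⟩
    rw [show u = ⟨_, D.L_le_M hy⟩ * ⟨D.x, D.x_mem_M⟩ ^ i from Subtype.ext (by
      rw [h, Subgroup.coe_mul, Subgroup.coe_pow])]
    exact mul_mem (Subgroup.mem_sup_left (Subgroup.mem_subgroupOf.2 hy))
      (Subgroup.mem_sup_right (pow_mem (Subgroup.mem_zpowers _) i))⟩

theorem preserved_autInduced [Finite S] {g : MulAut D.M} (hg : g ∈ autInducedBy S D.M) :
    D.series.Preserved g := by
  refine ⟨D.C_invariant g, fun u hu => ?_⟩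
  obtain ⟨k, hk, hkS, rfl⟩ := exists_eq_conjAut hg
  exact Subgroup.mem_subgroupOf.2 (by
    rw [conjAut_apply]
    exact conj_mem_of_mem_normalizer (D.le_normalizer_L hkS) hu)

variable [Finite S]

/-- No automorphism of `M` fixing `L` squares `x` modulo `L`. -/
theorem false_of_torus (ha : D.a = 1) (hS : IsPGroup p S) (hF : F.IsSaturated p) {h : MulAut D.M}
    (hh : h ∈ F.autGroup D.M) (hL : ∀ u ∈ D.L.subgroupOf D.M, h u ∈ D.L.subgroupOf D.M)
    (hx : (D.x ^ 2)⁻¹ * ((h ⟨D.x, D.x_mem_M⟩ : D.M) : Ω) ∈ D.L) : False := by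
  obtain ⟨ψ, -, hag⟩ := exists_extend hS hF (D.isFullyNormalized_M F) hh
    (normalizes_autInduced hS hF (D.isFullyNormalized_M F) D.series
      (fun g hg => D.preserved_autInduced hg) hh ⟨D.C_invariant h, hL⟩)
  have hSN : S ≤ normalizerIn S D.M := D.normalizerIn_M.ge
  refine D.false_of_endo ha
    ((normalizerIn S D.M).subtype.comp (ψ.toMonoidHom.comp (Subgroup.inclusion hSN)))
    (fun u => (ψ _).2.1)
    ((Subgroup.subtype_injective _).comp (ψ.injective.comp (Subgroup.inclusion_injective hSN)))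
    ?_ ?_
  · show (D.x ^ 2)⁻¹ * ((ψ ⟨D.x, hSN D.hxS⟩ : normalizerIn S D.M) : Ω) ∈ D.L
    rw [hag D.x D.x_mem_M (hSN D.hxS)]
    exact hx
  · show ((ψ ⟨D.y, hSN D.hyS⟩ : normalizerIn S D.M) : Ω) ∈ D.L
    rw [hag D.y D.y_mem_M (hSN D.hyS)]
    exact hL _ (Subgroup.mem_subgroupOf.2 (Subgroup.mem_sup_left (Subgroup.mem_zpowers _)))

/-- `L` is invariant under the automorphisms of `M` in the system. -/
theorem L_invariant (ha : D.a = 1) (hS : IsPGroup p S) (hF : F.IsSaturated p) {γ : MulAut D.M}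
    (hγ : γ ∈ F.autGroup D.M) : ∀ u ∈ D.L.subgroupOf D.M, γ u ∈ D.L.subgroupOf D.M := by
  haveI : Finite D.M := finite_of_le D.M_le
  haveI := D.C_normal
  set y' : D.M := ⟨D.y, D.y_mem_M⟩ with hy'
  set x' : D.M := ⟨D.x, D.x_mem_M⟩ with hx'
  have hLeq : D.L.subgroupOf D.M = D.C ⊔ Subgroup.zpowers y'⁻¹ := by
    rw [Subgroup.zpowers_inv]; exact D.L_subgroupOf
  by_contra hcon
  have hmove : γ y'⁻¹ ∉ D.C ⊔ Subgroup.zpowers y'⁻¹ := fun h => hcon fun u hu => by
    rw [hLeq] at hu ⊢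
    have hle : D.C ⊔ Subgroup.zpowers y'⁻¹ ≤
        (D.C ⊔ Subgroup.zpowers y'⁻¹).comap (γ : D.M ≃* D.M).toMonoidHom :=
      sup_le (fun c hc => Subgroup.mem_sup_left (D.C_invariant γ c hc)) (Subgroup.zpowers_le.2 h)
    exact hle hu
  have hzn : D.z ∈ Subgroup.normalizer (D.M : Set Ω) := (D.normalizerIn_M.ge D.hzS).2
  have hα : conjAut D.M D.z hzn ∈ F.autGroup D.M :=
    autInducedBy_le_autGroup F D.M_le (conjAut_mem_autInducedBy D.hzS hzn)
  have hcxy : x' * y' * x'⁻¹ * y'⁻¹ ∈ D.C := by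
    rw [mem_C]
    show D.x * D.y * D.x⁻¹ * D.y⁻¹ ∈ Subgroup.zpowers (D.z ^ p)
    rw [D.hxy', ← ((D.wpow_comm D.hyS _).eq), mul_inv_cancel_right]
    exact pow_mem D.w_mem_zpowers _
  set π := QuotientGroup.mk' D.C
  have hπxy : Commute (π x') (π y') := by
    have h1 : π (x' * y' * x'⁻¹ * y'⁻¹) = 1 := (QuotientGroup.eq_one_iff _).2 hcxy
    show π x' * π y' = π y' * π x'
    rw [← map_mul, show x' * y' = x' * y' * x'⁻¹ * y'⁻¹ * (y' * x') by group, map_mul, h1, one_mul,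
      map_mul]
  have hall : ∀ u : D.M, ∃ j i : ℕ, π u = π y' ^ j * π x' ^ i := by
    intro u
    obtain ⟨j, t, i, h⟩ := D.mem_M.1 u.2
    refine ⟨j, i, ?_⟩
    rw [show u = y' ^ j * ⟨D.z ^ p, D.zp_mem_M⟩ ^ t * x' ^ i from Subtype.ext (by
      rw [h]; simp [hy', hx']), map_mul, map_mul, map_pow, map_pow, map_pow,
      show π (⟨D.z ^ p, D.zp_mem_M⟩ : D.M) = 1 from
        (QuotientGroup.eq_one_iff _).2 (D.mem_C.2 (Subgroup.mem_zpowers _)), one_pow, mul_one]
  obtain ⟨h, hh, h1, h2⟩ := exists_torus_quot (p := p) (by have := D.hp5; omega) (C := D.C)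
    (fun u v => by
      obtain ⟨j, i, hu⟩ := hall u
      obtain ⟨j', i', hv⟩ := hall v
      rw [← QuotientGroup.eq_one_iff, show ((u * v * u⁻¹ * v⁻¹ : D.M) : D.M ⧸ D.C) =
        π u * π v * (π u)⁻¹ * (π v)⁻¹ from rfl]
      have hc : Commute (π u) (π v) := by
        rw [hu, hv]
        refine ((Commute.pow_pow (Commute.refl _) j j').mul_right (hπxy.symm.pow_pow j i')).mul_left
          ((hπxy.pow_pow i j').mul_right (Commute.pow_pow (Commute.refl _) i i'))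
      rw [hc.eq, mul_inv_cancel_right, mul_inv_cancel])
    (fun u => D.mem_C.2 (by rw [Subgroup.coe_pow]; exact D.pow_mem_zpowers u.2.1))
    (G := F.autGroup D.M) (fun g _ => D.C_invariant g) hα (v := x') (l := y'⁻¹)
    (by
      have he : conjAut D.M D.z hzn y'⁻¹ = y'⁻¹ := Subtype.ext (by
        rw [conjAut_apply]
        show D.z * D.y⁻¹ * D.z⁻¹ = D.y⁻¹
        rw [← D.hyz.inv_left.eq, mul_inv_cancel_right])
      rw [he, inv_mul_cancel]
      exact one_mem _)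
    (by
      have he : conjAut D.M D.z hzn x' = y'⁻¹ * x' := Subtype.ext (by
        rw [conjAut_apply]
        show D.z * D.x * D.z⁻¹ = D.y⁻¹ * D.x
        rw [D.conj_z_x, ha, pow_one])
      rw [he]
      refine (QuotientGroup.eq_one_iff _).1 ?_
      show π ((x' * y'⁻¹)⁻¹ * (y'⁻¹ * x')) = 1
      rw [map_mul, map_inv, map_mul, map_mul, map_inv, hπxy.inv_right.eq, inv_mul_cancel])
    (eq_top_iff.2 fun u _ => by
      obtain ⟨j, t, i, hu⟩ := D.mem_M.1 u.2
      rw [show u = y'⁻¹ ^ (j * (p - 1)) * ⟨D.z ^ p, D.zp_mem_M⟩ ^ t * x' ^ i from Subtype.ext (by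
        rw [hu, Subgroup.coe_mul, Subgroup.coe_mul, Subgroup.coe_pow, Subgroup.coe_pow,
          Subgroup.coe_pow, Subgroup.coe_inv]
        show D.y ^ j * _ * _ = (D.y⁻¹) ^ (j * (p - 1)) * _ * _
        congr 2
        rw [inv_pow, eq_inv_iff_mul_eq_one, ← pow_add, show j + j * (p - 1) = p * j by
          obtain ⟨r, hr⟩ : ∃ r, p = r + 1 := ⟨p - 1, by have := hp.out.pos; omega⟩
          subst hr; simp; ring, pow_mul, D.hyp, one_pow])]
      exact mul_mem (mul_mem (Subgroup.mem_sup_right (pow_mem (Subgroup.mem_zpowers _) _))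
        (Subgroup.mem_sup_left (Subgroup.mem_sup_left
          (pow_mem (D.mem_C.2 (Subgroup.mem_zpowers _)) _))))
        (Subgroup.mem_sup_left (Subgroup.mem_sup_right (pow_mem (Subgroup.mem_zpowers _) _))))
    hγ hmove
  refine D.false_of_torus ha hS hF hh (fun u hu => ?_) ?_
  · rw [hLeq] at hu ⊢
    have hle : D.C ⊔ Subgroup.zpowers y'⁻¹ ≤
        (D.C ⊔ Subgroup.zpowers y'⁻¹).comap (h : D.M ≃* D.M).toMonoidHom :=
      sup_le (fun c hc => Subgroup.mem_sup_left (D.C_invariant h c hc)) (Subgroup.zpowers_le.2 h1)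
    exact hle hu
  · rw [← hLeq, Subgroup.mem_subgroupOf] at h2
    simpa [hx'] using h2

/-- The pearl `⟨x, w⟩` is not essential. -/
theorem false_of_pearl (ha : D.a = 1) (hm : m = 1) (hS : IsPGroup p S) (hF : F.IsSaturated p)
    {E : Subgroup Ω} (hE : F.IsEssential p E) (hlt : E < S)
    (heq : E = Subgroup.zpowers D.x ⊔ Subgroup.zpowers D.w) : False := by
  subst hm
  have hES : E ≤ S := hlt.le
  haveI : Finite E := finite_of_le hES
  have hxE : D.x ∈ E := heq ▸ Subgroup.mem_sup_left (Subgroup.mem_zpowers _)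
  have hwE : D.w ∈ E := heq ▸ Subgroup.mem_sup_right (Subgroup.mem_zpowers _)
  have hzpw : D.z ^ p = D.w := by rw [w, pow_one]
  have hEM : E ≤ D.M := by
    rw [heq]
    exact sup_le (Subgroup.zpowers_le.2 D.x_mem_M) (Subgroup.zpowers_le.2 (hzpw ▸ D.zp_mem_M))
  set x' : E := ⟨D.x, hxE⟩ with hx'
  set w' : E := ⟨D.w, hwE⟩ with hw'
  have htop : Subgroup.zpowers x' ⊔ Subgroup.zpowers w' = ⊤ := by
    refine Subgroup.map_injective (Subgroup.subtype_injective E) ?_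
    rw [Subgroup.map_sup, MonoidHom.map_zpowers, MonoidHom.map_zpowers, ← MonoidHom.range_eq_map,
      Subgroup.range_subtype]
    exact heq.symm
  have hexp : ∀ u : E, u ^ p = 1 := by
    intro u
    obtain ⟨j, t, i, h⟩ := D.mem_M.1 (hEM u.2)
    refine Subtype.ext ?_
    rw [Subgroup.coe_pow, h, ← pow_mul, D.nf_pow, ← pow_mul, ← mul_assoc, mul_comm (p * p),
      mul_comm t, pow_mul, show D.z ^ (p * p) = 1 by
        rw [← pow_two]
        have := D.hzp
        exact this, one_pow, OneMemClass.coe_one]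
  have hcommE : ∀ u v : E, Commute u v := by
    have hxw : Commute x' w' := Subtype.ext (D.w_comm D.hxS).symm.eq
    have hcc : ∀ u : E, ∃ a b : ℕ, u = x' ^ a * w' ^ b := by
      intro u
      have hu : u ∈ Subgroup.zpowers x' ⊔ Subgroup.zpowers w' := htop ▸ Subgroup.mem_top u
      haveI : (Subgroup.zpowers w').Normal := ⟨fun c hc g => by
        obtain ⟨i, rfl⟩ := Subgroup.mem_zpowers_iff.1 hc
        have : Commute g w' := Subtype.ext ((D.w_comm (hES g.2)).symm.eq)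
        rw [(this.zpow_right i).eq, mul_inv_cancel_right]
        exact zpow_mem (Subgroup.mem_zpowers _) i⟩
      rw [Subgroup.mem_sup_of_normal_right] at hu
      obtain ⟨c, hc, d, hd, rfl⟩ := hu
      obtain ⟨a, ha'⟩ := (isOfFinOrder_of_finite x').mem_powers_iff_mem_zpowers.2 hc
      obtain ⟨b, hb'⟩ := (isOfFinOrder_of_finite w').mem_powers_iff_mem_zpowers.2 hd
      exact ⟨a, b, by rw [← ha', ← hb']⟩
    intro u v
    obtain ⟨a, b, rfl⟩ := hcc u
    obtain ⟨a', b', rfl⟩ := hcc v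
    exact ((Commute.pow_pow (Commute.refl _) a a').mul_right (hxw.pow_pow a b')).mul_left
      ((hxw.symm.pow_pow b a').mul_right (Commute.pow_pow (Commute.refl _) b b'))
  have hwfix : ∀ g ∈ autInducedBy S E, g w' = w' := by
    intro g hg
    obtain ⟨k, hk, hkS, rfl⟩ := exists_eq_conjAut hg
    refine Subtype.ext ?_
    rw [conjAut_apply]
    show k * D.w * k⁻¹ = D.w
    rw [← (D.w_comm hkS).eq, mul_inv_cancel_right]
  have hAn : (Subgroup.zpowers w').Normal :=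
    ⟨fun c hc g => by rwa [(hcommE g c).eq, mul_inv_cancel_right]⟩
  let c : CyclicSeries E :=
    { A := Subgroup.zpowers w'
      B := ⊤
      hA := hAn
      hB := inferInstance
      stepA := ⟨w', rfl⟩
      stepB := ⟨x', by rw [sup_comm, htop]⟩
      stepTop := ⟨1, by simp⟩ }
  have hpres : ∀ g : MulAut E, g w' ∈ Subgroup.zpowers w' → c.Preserved g := fun g hg =>
    ⟨fun d hd => by
      obtain ⟨i, rfl⟩ := Subgroup.mem_zpowers_iff.1 (show d ∈ Subgroup.zpowers w' from hd)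
      show g (w' ^ i) ∈ Subgroup.zpowers w'
      rw [map_zpow]
      exact zpow_mem hg i, fun d _ => Subgroup.mem_top (g d)⟩
  set l := (w' ^ D.s)⁻¹ with hl
  have hlw : Subgroup.zpowers l = Subgroup.zpowers w' := by
    rw [hl, Subgroup.zpowers_inv]
    refine le_antisymm (Subgroup.zpowers_le.2 (pow_mem (Subgroup.mem_zpowers _) _))
      (Subgroup.zpowers_le.2 ?_)
    obtain ⟨e, he⟩ := exists_pow_inverse (p := p) D.hs
    have : w' = (w' ^ D.s) ^ e := by
      rw [← pow_mul, pow_eq_pow_mod _ (hexp w'), he, Nat.mod_eq_of_lt hp.out.one_lt, pow_one]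
    exact (congrArg (· ∈ Subgroup.zpowers (w' ^ D.s)) this).mpr (pow_mem (Subgroup.mem_zpowers _) e)
  obtain ⟨γ, hγ, hmove⟩ : ∃ γ ∈ F.autGroup E, γ w' ∉ Subgroup.zpowers w' := by
    by_contra hcon
    push Not at hcon
    exact false_of_essential hS hF hE hlt c fun g hg => hpres g (hcon g hg)
  haveI : Finite (MulAut E) := finite_mulAut
  have hyn : D.y ∈ Subgroup.normalizer (E : Set Ω) := by
    have hyx : D.y * D.x * D.y⁻¹ ∈ E := by
      have h1 : D.x * D.y * D.x⁻¹ = D.y * D.w ^ D.s := D.hxy'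
      have h2 : D.y * D.x * D.y⁻¹ = D.x * (D.w ^ D.s)⁻¹ := by
        rw [mul_inv_eq_iff_eq_mul, mul_assoc, ← ((D.wpow_comm D.hyS D.s).inv_left.symm.eq),
          ← mul_assoc, mul_inv_eq_iff_eq_mul.1 h1]
        rw [show D.y * D.w ^ D.s * D.x = D.y * (D.x * D.w ^ D.s) by
          rw [mul_assoc, (D.wpow_comm D.hxS D.s).eq]]
        group
      rw [h2]
      exact mul_mem hxE (inv_mem (pow_mem hwE _))
    refine Subgroup.mem_normalizer_fintype fun u hu => ?_
    have hle : E ≤ E.comap (MulAut.conj D.y).toMonoidHom := by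
      nth_rewrite 1 [heq]
      refine sup_le (Subgroup.zpowers_le.2 hyx) (Subgroup.zpowers_le.2 ?_)
      show D.y * D.w * D.y⁻¹ ∈ E
      rw [← (D.w_comm D.hyS).eq, mul_inv_cancel_right]
      exact hwE
    exact hle hu
  have hαmem := conjAut_mem_autInducedBy (K := S) (P := E) D.hyS hyn
  have hαl : conjAut E D.y hyn l = l := by
    rw [hl, map_inv, map_pow, hwfix _ hαmem]
  have hαx : conjAut E D.y hyn x' = x' * l := by
    refine Subtype.ext ?_
    rw [conjAut_apply, hl, Subgroup.coe_mul, Subgroup.coe_inv, Subgroup.coe_pow]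
    show D.y * D.x * D.y⁻¹ = D.x * (D.w ^ D.s)⁻¹
    rw [mul_inv_eq_iff_eq_mul, mul_assoc, ← ((D.wpow_comm D.hyS D.s).inv_left.symm.eq),
      ← mul_assoc, mul_inv_eq_iff_eq_mul.1 D.hxy']
    rw [show D.y * D.w ^ D.s * D.x = D.y * (D.x * D.w ^ D.s) by
      rw [mul_assoc, (D.wpow_comm D.hxS D.s).eq]]
    group
  letI : CommGroup E := { (inferInstance : Group E) with mul_comm := fun u v => (hcommE u v).eq }
  obtain ⟨h, hh, h1, h2⟩ := exists_torus (p := p) (V := E) (by have := D.hp5; omega) hexp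
    (G := F.autGroup E) (autInducedBy_le_autGroup F hES hαmem) (v := x') (l := l) hαl hαx
    (by rw [hlw, htop]) hγ (by
      rw [hlw]
      intro h
      apply hmove
      have hle : Subgroup.zpowers l ≤ (Subgroup.zpowers w').comap (γ : E ≃* E).toMonoidHom :=
        Subgroup.zpowers_le.2 h
      exact hle (hlw.ge (Subgroup.mem_zpowers w')))
  rw [hlw] at h1 h2
  have h1' : h w' ∈ Subgroup.zpowers w' := by
    have hle : Subgroup.zpowers l ≤ (Subgroup.zpowers w').comap (h : E ≃* E).toMonoidHom :=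
      Subgroup.zpowers_le.2 h1
    exact hle (hlw.ge (Subgroup.mem_zpowers w'))
  have hext := exists_extend hS hF hE.2.1 hh (normalizes_autInduced hS hF hE.2.1 c
    (fun g hg => hpres g (by rw [hwfix g hg]; exact Subgroup.mem_zpowers _)) hh (hpres h h1'))
  have hN : normalizerIn S E = D.M := by
    refine le_antisymm (fun g hg => ?_) (fun g hg => ?_)
    · obtain ⟨j, k, i, rfl⟩ := D.exists_nf hg.1
      refine D.nf_mem_M.2 ?_
      by_contra hk
      have hxn : D.x ∈ Subgroup.normalizer (E : Set Ω) := Subgroup.le_normalizer hxE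
      have hzk : D.z ^ k ∈ Subgroup.normalizer (E : Set Ω) := by
        have := mul_mem (mul_mem (inv_mem (pow_mem hyn j)) hg.2) (inv_mem (pow_mem hxn i))
        rwa [mul_assoc (D.y ^ j), inv_mul_cancel_left, mul_inv_cancel_right] at this
      have hzn : D.z ∈ Subgroup.normalizer (E : Set Ω) := by
        have hco : (p ^ (1 + 1)).Coprime k :=
          ((hp.out.coprime_iff_not_dvd).2 hk).pow_left _
        obtain ⟨e, he⟩ := Nat.exists_mul_mod_eq_one_of_coprime hco.symm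
          (Nat.one_lt_pow (by omega) hp.out.one_lt)
        have h3 : D.z = (D.z ^ k) ^ e := by
          rw [← pow_mul, pow_eq_pow_mod _ D.hzp, he.2, pow_one]
        rw [h3]
        exact pow_mem hzk e
      have h4 : D.z * D.x * D.z⁻¹ ∈ E := conj_mem_of_mem_normalizer hzn hxE
      rw [D.conj_z_x, ha, pow_one] at h4
      have h5 : D.y ∈ E := by
        have := inv_mem (mul_mem h4 (inv_mem hxE))
        rwa [mul_inv_cancel_right, inv_inv] at this
      have h6 : Commute x' ⟨D.y, h5⟩ := hcommE _ _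
      have h7 : D.x * D.y * D.x⁻¹ = D.y :=
        mul_inv_eq_iff_eq_mul.2 (congrArg Subtype.val h6.eq :)
      rw [D.hxy'] at h7
      have h8 := D.cast_eq_of_wpow (e := D.s) (e' := 0) (by rw [pow_zero]; exact mul_eq_left.1 h7)
      rw [Nat.cast_zero, ZMod.natCast_eq_zero_iff] at h8
      exact D.hs h8
    · obtain ⟨j, t, i, rfl⟩ := D.mem_M.1 hg
      refine ⟨D.M_le hg, mul_mem (mul_mem (pow_mem hyn j) (pow_mem ?_ t)) (pow_mem ?_ i)⟩
      · exact Subgroup.le_normalizer (hzpw ▸ hwE)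
      · exact Subgroup.le_normalizer hxE
  rw [hN] at hext
  obtain ⟨ψ, hψ, hag⟩ := hext
  refine D.false_of_torus ha hS hF hψ (D.L_invariant ha hS hF hψ) ?_
  rw [hag D.x hxE D.x_mem_M]
  obtain ⟨t, ht⟩ := Subgroup.mem_zpowers_iff.1 h2
  have h3 : ((D.x ^ 2)⁻¹ * ((h x' : E) : Ω)) = D.w ^ t := by
    have := congrArg Subtype.val ht
    simpa [hx', hw'] using this.symm
  rw [h3]
  exact Subgroup.mem_sup_right (zpow_mem D.w_mem_zpowers t)

end Data

end CfsgLib.FusionRankTwo
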