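import Cfsg.Agent.Lib.FusionRankTwo.Main
import Cfsg.Agent.Lib.FusionIndexP.Essential

/-!
# Rank two groups for `p ≥ 5` are resistant
-/

set_option autoImplicit false
set_option linter.style.haveILetI false

namespace CfsgLib.FusionRankTwo

open Cfsg Cfsg.FusionSystem CfsgLib.Fusion

variable {Ω : Type*} [Group Ω] {S : Subgroup Ω} {p m : ℕ}

namespace Data

variable (D : Data S p m) [hp : Fact p.Prime]

theorem z_power_mem {E : Subgroup Ω} {k : ℕ} (hk : ¬ p ∣ k) (h : D.z ^ k ∈ E) : D.z ∈ E := by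
  have hco : k.Coprime (p ^ (m + 1)) := ((hp.out.coprime_iff_not_dvd).2 hk).symm.pow_right _
  obtain ⟨e, he⟩ := Nat.exists_mul_mod_eq_one_of_coprime hco (Nat.one_lt_pow (by omega) hp.out.one_lt)
  have h3 : D.z = (D.z ^ k) ^ e := by
    rw [← pow_mul, pow_eq_pow_mod _ D.hzp, he.2, pow_one]
  exact h3 ▸ pow_mem h e

variable [Finite S] {F : Cfsg.FusionSystem S}

include D in
/-- No subgroup is essential. -/
theorem not_essential (hS : IsPGroup p S) (hF : F.IsSaturated p) {E : Subgroup Ω}
    (hE : F.IsEssential p E) : False := by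
  classical
  have hp' : p.Prime := hp.out
  have hlt : E < S := (CfsgLib.FusionIndexP.exists_outer_of_isEssential hS hF hE).1
  have hcen := centralizerIn_le_of_isCentric hE.1
  have hES : E ≤ S := hlt.le
  haveI : Finite E := finite_of_le hES
  have hzpE : D.z ^ p ∈ E :=
    hcen ⟨pow_mem D.hzS p, Subgroup.mem_centralizer_iff.2 fun g hg => (D.zp_comm (hES hg)).symm.eq⟩
  let P : S →* S := MonoidHom.mk' (fun u => u ^ p) fun u v => Subtype.ext (by
    simpa using D.mul_pow u.2 v.2)
  have hOcard : Nat.card P.ker ≤ p ^ 3 :=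
    D.card_omega_le P.ker fun u hu => (MonoidHom.mem_ker.1 hu : u ^ p = 1)
  by_cases hker : ∀ u ∈ S, u ^ p = 1 → u ∈ E
  · have hxE := hker _ D.hxS D.hxp
    have hyE := hker _ D.hyS D.hyp
    have hzE : D.z ∉ E := fun h => hlt.not_ge (by
      conv_lhs => rw [← D.gen]
      rw [Subgroup.closure_le]
      intro u hu
      simp only [Set.mem_insert_iff, Set.mem_singleton_iff] at hu
      rcases hu with rfl | rfl | rfl <;> assumption)
    rcases D.ha with ha | ha
    · apply hzE
      refine hcen ⟨D.hzS, Subgroup.mem_centralizer_iff.2 fun g hg => ?_⟩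
      obtain ⟨j, k, i, rfl⟩ := D.exists_nf (hES hg)
      have hxz : Commute D.x D.z := by
        have := D.hxz
        rw [ha, pow_zero, one_mul, mul_inv_eq_iff_eq_mul] at this
        exact this
      exact (((D.hyz.pow_left j).mul_left ((Commute.refl D.z).pow_left k)).mul_left (hxz.pow_left i)).eq
    have hEM : E = D.M := by
      refine le_antisymm (fun u hu => ?_) (fun u hu => ?_)
      · obtain ⟨j, k, i, rfl⟩ := D.exists_nf (hES hu)
        refine D.nf_mem_M.2 ?_
        by_contra hk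
        refine hzE (D.z_power_mem hk ?_)
        have := mul_mem (mul_mem (inv_mem (pow_mem hyE j)) hu) (inv_mem (pow_mem hxE i))
        rwa [mul_assoc (D.y ^ j), inv_mul_cancel_left, mul_inv_cancel_right] at this
      · obtain ⟨j, t, i, rfl⟩ := D.mem_M.1 hu
        exact mul_mem (mul_mem (pow_mem hyE j) (pow_mem hzpE t)) (pow_mem hxE i)
    subst hEM
    exact false_of_essential hS hF hE hlt D.series fun g hg =>
      ⟨D.C_invariant g, D.L_invariant ha hS hF hg⟩
  push Not at hker
  obtain ⟨u₁, hu₁S, hu₁p, hu₁E⟩ := hker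
  have hsmall : ∀ K : Subgroup E, (∀ u ∈ K, u ^ p = 1) → Nat.card K ≤ p ^ 2 := by
    intro K hK
    set K' := K.map (Subgroup.inclusion hES) with hK'
    have hle : K' ≤ P.ker := by
      rintro _ ⟨u, hu, rfl⟩
      show Subgroup.inclusion hES u ^ p = 1
      rw [← map_pow, hK u hu, map_one]
    have hne : K' ≠ P.ker := fun h => hu₁E (by
      have h1 : (⟨u₁, hu₁S⟩ : S) ∈ P.ker := Subtype.ext hu₁p
      rw [← h] at h1
      obtain ⟨u, -, hu⟩ := h1
      have h2 : (u : Ω) = u₁ := congrArg Subtype.val hu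
      exact h2 ▸ u.2)
    have hlt' : Nat.card K' < Nat.card P.ker :=
      lt_of_le_of_ne (Subgroup.card_le_of_le hle) fun e =>
        hne (Subgroup.eq_of_le_of_card_ge hle e.ge)
    obtain ⟨i, hi⟩ := IsPGroup.iff_card.1 (hS.to_subgroup K')
    have hcm : Nat.card K' = Nat.card K :=
      Subgroup.card_map_of_injective (Subgroup.inclusion_injective hES)
    rw [← hcm, hi]
    have h2 := (hi ▸ hlt').trans_le hOcard
    exact Nat.pow_le_pow_right hp'.pos (by
      have := (Nat.pow_lt_pow_iff_right hp'.one_lt).1 h2; omega)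
  have hpowE : ∀ u v : E, (u * v) ^ p = u ^ p * v ^ p := fun u v =>
    Subtype.ext (by simpa using D.mul_pow (hES u.2) (hES v.2))
  by_cases hne : ∃ u : E, u ^ p ≠ 1
  · exact false_of_powers hS hF hE hlt hpowE (fun u => D.pow_mem_zpowers (hES u.2)) hne hsmall
  push Not at hne
  have hEcard : Nat.card E ≤ p ^ 2 := by
    have := hsmall ⊤ fun u _ => hne u
    rwa [Subgroup.card_top] at this
  have hm1 : m = 1 := by
    by_contra hm
    have h1 : (D.z ^ p) ^ p = 1 := congrArg Subtype.val (hne ⟨_, hzpE⟩)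
    rw [← pow_mul] at h1
    have h2 := orderOf_dvd_of_pow_eq_one h1
    rw [D.orderOf_z, ← pow_two, Nat.pow_dvd_pow_iff_le_right hp'.one_lt] at h2
    have := D.hm
    omega
  subst hm1
  have hzpw : D.z ^ p = D.w := by rw [Data.w, pow_one]
  have hwE : D.w ∈ E := hzpw ▸ hzpE
  have hzE : D.z ∉ E := fun h => by
    have h1 : D.z ^ p = 1 := congrArg Subtype.val (hne ⟨_, h⟩)
    exact D.w_ne_one (hzpw.symm.trans h1)
  have hEM : E ≤ D.M := fun u hu => ⟨hES hu, by
    rw [show u ^ p = 1 from congrArg Subtype.val (hne ⟨u, hu⟩)]; exact one_mem _⟩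
  have hnotle : ¬ E ≤ Subgroup.zpowers D.w := fun h => hzE (hcen ⟨D.hzS,
    Subgroup.mem_centralizer_iff.2 fun g hg => by
      obtain ⟨t, rfl⟩ := Subgroup.mem_zpowers_iff.1 (h hg)
      exact ((D.w_comm D.hzS).zpow_left t).eq⟩)
  obtain ⟨e, heE, hew⟩ := SetLike.not_le_iff_exists.1 hnotle
  have hgen : ∀ e' ∈ E, e' ∉ Subgroup.zpowers D.w →
      E = Subgroup.zpowers e' ⊔ Subgroup.zpowers D.w := by
    intro e' he' hew'
    have hle : Subgroup.zpowers e' ⊔ Subgroup.zpowers D.w ≤ E :=
      sup_le (Subgroup.zpowers_le.2 he') (Subgroup.zpowers_le.2 hwE)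
    refine (Subgroup.eq_of_le_of_card_ge hle (hEcard.trans ?_)).symm
    haveI : Finite ↥(Subgroup.zpowers e' ⊔ Subgroup.zpowers D.w) := finite_of_le (hle.trans hES)
    have hlt' : Subgroup.zpowers D.w < Subgroup.zpowers e' ⊔ Subgroup.zpowers D.w :=
      lt_of_le_of_ne le_sup_right fun h =>
        hew' (h ▸ Subgroup.mem_sup_left (Subgroup.mem_zpowers e'))
    obtain ⟨i, hi⟩ := IsPGroup.iff_card.1 (hS.to_le (hle.trans hES))
    have h1 : Nat.card (Subgroup.zpowers D.w) <
        Nat.card ↥(Subgroup.zpowers e' ⊔ Subgroup.zpowers D.w) :=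
      lt_of_le_of_ne (Subgroup.card_le_of_le hlt'.le) fun h =>
        hlt'.ne (Subgroup.eq_of_le_of_card_ge hlt'.le h.ge)
    rw [Nat.card_zpowers, D.orderOf_w, hi] at h1
    rw [hi]
    exact Nat.pow_le_pow_right hp'.pos (by
      have := (Nat.pow_lt_pow_iff_right hp'.one_lt).1 (by rwa [pow_one] : p ^ 1 < p ^ i); omega)
  rcases D.ha with ha | ha
  · apply hzE
    refine hcen ⟨D.hzS, Subgroup.mem_centralizer_iff.2 fun g hg => ?_⟩
    obtain ⟨j, k, i, rfl⟩ := D.exists_nf (hES hg)
    have hxz : Commute D.x D.z := by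
      have := D.hxz
      rw [ha, pow_zero, one_mul, mul_inv_eq_iff_eq_mul] at this
      exact this
    exact (((D.hyz.pow_left j).mul_left ((Commute.refl D.z).pow_left k)).mul_left (hxz.pow_left i)).eq
  obtain ⟨j, t, i, rfl⟩ := D.mem_M.1 (hEM heE)
  rw [hzpw] at heE hew
  by_cases hi : p ∣ i
  · obtain ⟨i', rfl⟩ := hi
    rw [pow_mul D.x, D.hxp, one_pow, mul_one] at heE hew
    apply hzE
    refine hcen ⟨D.hzS, Subgroup.mem_centralizer_iff.2 fun g hg => ?_⟩
    have hle : E ≤ Subgroup.centralizer ({D.z} : Set Ω) := by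
      rw [hgen _ heE hew]
      refine sup_le (Subgroup.zpowers_le.2 (Subgroup.mem_centralizer_singleton_iff.2 ?_))
        (Subgroup.zpowers_le.2 (Subgroup.mem_centralizer_singleton_iff.2 (D.w_comm D.hzS).eq))
      exact ((D.hyz.pow_left j).mul_left ((D.w_comm D.hzS).pow_left t)).eq
    exact Subgroup.mem_centralizer_singleton_iff.1 (hle hg)
  obtain ⟨d, hd⟩ := exists_pow_inverse (p := p) hi
  have hepow : ∀ n : ℕ, ∃ g e' : ℕ, (D.y ^ j * D.w ^ t * D.x ^ i) ^ n =
      D.y ^ g * D.w ^ e' * D.x ^ (n * i) := by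
    intro n
    induction n with
    | zero => exact ⟨0, 0, by simp⟩
    | succ n ih =>
      obtain ⟨g, e', h⟩ := ih
      refine ⟨g + j, e' + t + D.s * j * (n * i), ?_⟩
      have h1 : D.x ^ (n * i) * (D.y ^ j * D.w ^ t) =
          D.y ^ j * D.w ^ (D.s * j * (n * i)) * D.w ^ t * D.x ^ (n * i) := by
        rw [← mul_assoc, mul_inv_eq_iff_eq_mul.1 (D.conj_xpow_y (n * i) j), mul_assoc,
          ← (D.wpow_comm (pow_mem D.hxS _) t).eq, ← mul_assoc]
      rw [pow_succ, h, Nat.succ_mul, pow_add D.x, pow_add D.w, pow_add D.w, pow_add D.y]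
      calc D.y ^ g * D.w ^ e' * D.x ^ (n * i) * (D.y ^ j * D.w ^ t * D.x ^ i)
          = D.y ^ g * D.w ^ e' * (D.x ^ (n * i) * (D.y ^ j * D.w ^ t)) * D.x ^ i := by group
        _ = D.y ^ g * (D.w ^ e' * D.y ^ j) * (D.w ^ (D.s * j * (n * i)) * D.w ^ t) *
              (D.x ^ (n * i) * D.x ^ i) := by rw [h1]; simp only [mul_assoc]
        _ = _ := by
              rw [(D.wpow_comm (pow_mem D.hyS j) e').eq,
                ((Commute.refl D.w).pow_pow (D.s * j * (n * i)) t).eq]
              simp only [mul_assoc]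
  obtain ⟨g, e', hge⟩ := hepow d
  have hxE' : D.y ^ g * D.x ∈ E := by
    have h1 : D.y ^ g * D.w ^ e' * D.x ^ (d * i) ∈ E := hge ▸ pow_mem heE d
    have h2 : D.x ^ (d * i) = D.x := by
      rw [mul_comm, pow_eq_pow_mod _ D.hxp, hd, Nat.mod_eq_of_lt hp'.one_lt, pow_one]
    rw [h2, mul_assoc, (D.wpow_comm D.hxS e').eq, ← mul_assoc] at h1
    have h3 := mul_mem h1 (inv_mem (pow_mem hwE e'))
    rwa [mul_inv_cancel_right] at h3
  let D' : Data S p 1 :=
    { x := D.y ^ g * D.x
      y := D.y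
      z := D.z
      a := D.a
      s := D.s
      hp5 := D.hp5
      hm := le_rfl
      hxS := hES hxE'
      hyS := D.hyS
      hzS := D.hzS
      gen := by
        refine le_antisymm ((Subgroup.closure_le _).2 fun u hu => ?_) ?_
        · simp only [Set.mem_insert_iff, Set.mem_singleton_iff] at hu
          rcases hu with rfl | rfl | rfl
          · exact hES hxE'
          · exact D.hyS
          · exact D.hzS
        · conv_lhs => rw [← D.gen]
          rw [Subgroup.closure_le]
          intro u hu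
          simp only [Set.mem_insert_iff, Set.mem_singleton_iff] at hu
          rcases hu with rfl | rfl | rfl
          · rw [show D.x = (D.y ^ g)⁻¹ * (D.y ^ g * D.x) by rw [inv_mul_cancel_left]]
            exact mul_mem (inv_mem (pow_mem (Subgroup.subset_closure (by simp)) g))
              (Subgroup.subset_closure (by simp))
          · exact Subgroup.subset_closure (by simp)
          · exact Subgroup.subset_closure (by simp)
      card := D.card
      hxp := congrArg Subtype.val (hne ⟨_, hxE'⟩)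
      hyp := D.hyp
      hzp := D.hzp
      hyz := D.hyz
      ha := D.ha
      hs := D.hs
      hxz := by
        calc D.y ^ g * D.x * D.z * (D.y ^ g * D.x)⁻¹ = D.y ^ g * (D.x * D.z * D.x⁻¹) * (D.y ^ g)⁻¹ := by
              group
          _ = D.y ^ D.a * D.z := by
              rw [D.hxz, (((Commute.refl D.y).pow_pow g D.a).mul_right (D.hyz.pow_left g)).eq,
                mul_inv_cancel_right]
      hxy := by
        calc D.y ^ g * D.x * D.y * (D.y ^ g * D.x)⁻¹ = D.y ^ g * (D.x * D.y * D.x⁻¹) * (D.y ^ g)⁻¹ := by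
              group
          _ = D.y * (D.z ^ p ^ 1) ^ D.s := by
              rw [D.hxy, (((Commute.refl D.y).pow_left g).mul_right
                (((D.hyz.pow_left g).pow_right (p ^ 1)).pow_right D.s)).eq, mul_inv_cancel_right] }
  refine D'.false_of_pearl ha rfl hS hF hE hlt (hgen _ hxE' fun hmem => ?_)
  obtain ⟨t', ht'⟩ := Subgroup.mem_zpowers_iff.1 hmem
  obtain ⟨n, hn⟩ : ∃ n : ℕ, D.w ^ n = D.w ^ t' :=
    ((isOfFinOrder_iff_pow_eq_one.2 ⟨p, hp'.pos, D.w_pow⟩ : IsOfFinOrder D.w).mem_powers_iff_mem_zpowers.2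
      (zpow_mem (Subgroup.mem_zpowers _) t'))
  have h1 : D.y ^ 0 * D.z ^ (p ^ 1 * n) * D.x ^ 0 = D.y ^ g * D.z ^ 0 * D.x ^ 1 := by
    rw [pow_mul, pow_zero, pow_zero, pow_zero, one_mul, mul_one, mul_one, pow_one D.x]
    exact hn.trans ht'
  have h2 := (D.nf_unique h1).2.2
  rw [Nat.zero_mod, Nat.mod_eq_of_lt hp'.one_lt] at h2
  exact zero_ne_one h2

/-- The group is resistant. -/
theorem isNormal (hS : IsPGroup p S) (hF : F.IsSaturated p) (D : Data S p m) : F.IsNormal S := by
  refine (isNormal_iff_essential hS hF).2 fun P hP => ?_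
  rcases hP with rfl | hP
  · refine ⟨le_rfl, fun α _ => ?_⟩
    rw [Subgroup.subgroupOf_self, Subgroup.map_top_of_surjective _ α.surjective]
  · exact (D.not_essential hS hF hP).elim

end Data

end CfsgLib.FusionRankTwo
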